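import Groth.Agent.GrpSchField.Component
import Mathlib.AlgebraicGeometry.Morphisms.QuasiSeparated
import Mathlib.RingTheory.Ideal.MinimalPrime.Basic

/-! The connected component of the identity of a group scheme over a field. -/

open CategoryTheory Limits AlgebraicGeometry MonoidalCategory CartesianMonoidalCategory MonObj GrpObj

universe u

namespace Groth.Agent.GrpSchField

variable {K : Type u} [Field K] {G : Over (Spec (CommRingCat.of K))} [GrpObj G]

instance quasiSeparatedSpace : QuasiSeparatedSpace G.left :=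
  quasiSeparatedSpace_of_quasiSeparated G.hom

omit [GrpObj G] in
/-- Points in the closure of a compact open of a quasi-separated scheme are specializations. -/
theorem exists_specializes_of_mem_closure [QuasiSeparatedSpace G.left] {V : G.left.Opens}
    (hV : IsCompact (V : Set G.left)) {x : G.left} (hx : x ∈ closure (V : Set G.left)) :
    ∃ y ∈ V, y ⤳ x := by
  obtain ⟨_, ⟨W, hW, rfl⟩, hxW, -⟩ :=
    G.left.isBasis_affineOpens.exists_subset_of_mem_open (Set.mem_univ x) isOpen_univ
  replace hW : IsAffineOpen W := hW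
  have hc : IsCompact ((V ⊓ W : G.left.Opens) : Set G.left) :=
    hV.inter_of_isOpen (IsAffineOpen.isCompact hW) V.2 W.2
  obtain ⟨R, f, hf⟩ := AlgebraicGeometry.isCompact_iff_exists.1 hc
  obtain ⟨φ, hφ⟩ := Spec.map_surjective (IsOpenImmersion.lift hW.fromSpec f
    (by rw [hf, hW.range_fromSpec]; exact Set.inter_subset_right))
  have hfac : Spec.map φ ≫ hW.fromSpec = f := by rw [hφ, IsOpenImmersion.lift_fac]
  obtain ⟨p, rfl⟩ : x ∈ Set.range hW.fromSpec := by rw [hW.range_fromSpec]; exact hxW
  have hp : p ∈ closure (Set.range (Spec.map φ)) := by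
    have h1 : p ∈ hW.fromSpec ⁻¹' closure (V : Set G.left) := hx
    rw [hW.fromSpec.isOpenEmbedding.isOpenMap.preimage_closure_eq_closure_preimage
      hW.fromSpec.continuous] at h1
    refine closure_mono (fun q hq => ?_) h1
    obtain ⟨r, hr⟩ : hW.fromSpec q ∈ Set.range f := by
      rw [hf]; exact ⟨hq, hW.range_fromSpec.le ⟨q, rfl⟩⟩
    refine ⟨r, hW.fromSpec.isOpenEmbedding.injective ?_⟩
    rw [← Scheme.Hom.comp_apply, hfac, hr]
  change p ∈ closure (Set.range (PrimeSpectrum.comap φ.hom)) at hp
  rw [PrimeSpectrum.closure_range_comap] at hp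
  have : p.asIdeal.IsPrime := PrimeSpectrum.isPrime (R := Γ(G.left, W)) p
  obtain ⟨q, -, hq, hqle⟩ := Ideal.exists_ideal_comap_le_prime p.asIdeal (f := φ.hom) ⊥ hp
  let r : Spec R := ⟨q, hq⟩
  refine ⟨hW.fromSpec (Spec.map φ r), ?_,
    ((PrimeSpectrum.le_iff_specializes (PrimeSpectrum.comap φ.hom ⟨q, hq⟩) p).1 hqle).map
      hW.fromSpec.continuous⟩
  rw [← Scheme.Hom.comp_apply, hfac]
  exact (hf.le ⟨_, rfl⟩).1

/-- The union of the components meeting an open is open. -/
theorem isOpen_gen_preimage (V : G.left.Opens) : IsOpen {x : G.left | gen x ∈ V} := by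
  have h : {x : G.left | gen x ∈ V} = (fst G G).left ''
      (μ[G].left ⁻¹' V ∩ (snd G G).left ⁻¹' {gen (e G)}) := by
    ext x
    constructor
    · intro hx
      obtain ⟨p, hp1, hp2, hp⟩ := exists_mul_mem V.2 hx
      exact ⟨p, ⟨hp, hp2⟩, hp1⟩
    · rintro ⟨p, ⟨hp, hp2⟩, rfl⟩
      change gen ((fst G G).left p) ∈ V
      rw [← gen_mul p (by rw [show (snd G G).left p = _ from hp2]; exact subset_closure rfl)]
      exact (gen_specializes _).mem_open V.2 hp
  let j := 𝟙 G ⊗ₘ ptι (gen (e G))
  have h2 : (fst G G).left '' (μ[G].left ⁻¹' V ∩ (snd G G).left ⁻¹' {gen (e G)}) =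
      (fst G (pt (gen (e G)))).left '' (j.left ⁻¹' (μ[G].left ⁻¹' V)) := by
    rw [← range_whisker_ptι, ← Set.image_preimage_eq_inter_range, Set.image_image]
    refine Set.image_congr' fun r => ?_
    rw [← comp_left_apply, tensorHom_fst, Category.comp_id]
  rw [h, h2]
  exact (fst G _).left.isOpenMap _
    ((V.2.preimage μ[G].left.continuous).preimage j.left.continuous)

theorem isClosed_gen_preimage (V : G.left.Opens) (hV : IsCompact (V : Set G.left)) :
    IsClosed {x : G.left | gen x ∈ V} := by
  suffices {x : G.left | gen x ∈ V} = closure (V : Set G.left) from this ▸ isClosed_closure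
  ext x
  constructor
  · exact fun hx => closure_mono (Set.singleton_subset_iff.2 (show gen x ∈ (V : Set G.left) from hx))
      (gen_specializes x).mem_closure
  · intro hx
    obtain ⟨y, hy, hyx⟩ := exists_specializes_of_mem_closure hV hx
    change gen x ∈ V
    rw [← gen_eq_of_specializes hyx]
    exact (gen_specializes y).mem_open V.2 hy

variable (G) in
theorem connectedComponent_eq_unitComp : connectedComponent (e G) = unitComp G := by
  refine subset_antisymm (fun x hx => ?_)
    (isIrreducible_singleton.closure.isConnected.2.subset_connectedComponent e_mem_unitComp)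
  rw [mem_closure_gen_iff]
  by_contra hne
  have hns : ¬ gen x ⤳ gen (e G) := fun h => hne (eq_gen_of_specializes h)
  obtain ⟨O, hO, hζO, hxO⟩ := not_specializes_iff_exists_open.1 hns
  obtain ⟨_, ⟨V, hV, rfl⟩, hζV, hVO⟩ := G.left.isBasis_affineOpens.exists_subset_of_mem_open hζO hO
  exact hxO (hVO ((show IsClopen {x : G.left | gen x ∈ V} from
    ⟨isClosed_gen_preimage V (IsAffineOpen.isCompact hV), isOpen_gen_preimage V⟩).connectedComponent_subset hζV hx))

/-- The identity component lies in `U * U` for an open `U` around the identity. -/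
theorem unitComp_subset_mulSet (U : G.left.Opens) (hU : e G ∈ U) :
    unitComp G ⊆ mulSet (U : Set G.left) U := by
  intro g hg
  let gT : pt g ⟶ G := ptι g
  let φ : G ⊗ pt g ⟶ G := (fst G (pt g))⁻¹ * (snd G (pt g) ≫ gT)
  have hA := isIrreducible_preimage_unitComp (G := G) (G.left.fromSpecResidueField g ≫ G.hom)
  have h1 : (fst G (pt g)).left ((lift 1 (𝟙 (pt g))).left (ptPt g)) = e G := by
    rw [lift_fst_apply, one_apply]
  have h2 : (fst G (pt g)).left ((lift gT (𝟙 (pt g))).left (ptPt g)) = g := by
    rw [lift_fst_apply, ptι_apply]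
  have h3 : φ.left ((lift gT (𝟙 (pt g))).left (ptPt g)) = e G := by
    rw [← comp_left_apply,
      show lift gT (𝟙 (pt g)) ≫ φ = 1 by simp [φ, comp_mul, comp_inv], one_apply]
  obtain ⟨u, -, hu1, hu2⟩ := hA.2 _ _ (U.2.preimage (fst G (pt g)).left.continuous)
    (U.2.preimage φ.left.continuous)
    ⟨(lift 1 (𝟙 (pt g))).left (ptPt g), (congrArg (· ∈ unitComp G) h1).mpr e_mem_unitComp,
      (congrArg (· ∈ U) h1).mpr hU⟩
    ⟨(lift gT (𝟙 (pt g))).left (ptPt g), (congrArg (· ∈ unitComp G) h2).mpr hg,
      (congrArg (· ∈ U) h3).mpr hU⟩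
  have := mul_apply_mem (fst G (pt g)) φ u hu1 hu2
  rw [mul_inv_cancel_left] at this
  exact (congrArg (fun z => z ∈ mulSet (U : Set G.left) U)
    ((comp_left_apply (snd G (pt g)) gT u).trans (ptι_apply g _))).mp this

omit [GrpObj G] in
theorem range_opensι_tensor (U V : G.left.Opens) :
    Set.range ((Over.homMk U.ι : Over.mk (U.ι ≫ G.hom) ⟶ G) ⊗ₘ
        (Over.homMk V.ι : Over.mk (V.ι ≫ G.hom) ⟶ G)).left =
      (fst G G).left ⁻¹' (U : Set G.left) ∩ (snd G G).left ⁻¹' V := by
  rw [range_tensorHom, ← U.range_ι, ← V.range_ι]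
  rfl

theorem isCompact_mulSet {U V : G.left.Opens} (hU : IsCompact (U : Set G.left))
    (hV : IsCompact (V : Set G.left)) : IsCompact (mulSet (U : Set G.left) V) := by
  have : CompactSpace (U : Scheme.{u}) := isCompact_iff_compactSpace.1 hU
  have : CompactSpace (V : Scheme.{u}) := isCompact_iff_compactSpace.1 hV
  have : QuasiCompact (U.ι ≫ G.hom) := (quasiCompact_iff_compactSpace _).2 inferInstance
  have : CompactSpace (Over.mk (U.ι ≫ G.hom) ⊗ Over.mk (V.ι ≫ G.hom)).left :=
    inferInstanceAs (CompactSpace ↥(pullback (U.ι ≫ G.hom) (V.ι ≫ G.hom)))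
  rw [mulSet, ← range_opensι_tensor U V]
  exact (isCompact_range (Scheme.Hom.continuous _)).image μ[G].left.continuous

variable (G) in
theorem isCompact_unitComp : IsCompact (unitComp G) := by
  obtain ⟨_, ⟨U, hU, rfl⟩, heU, -⟩ :=
    G.left.isBasis_affineOpens.exists_subset_of_mem_open (Set.mem_univ (e G)) isOpen_univ
  exact (isCompact_mulSet (IsAffineOpen.isCompact hU) (IsAffineOpen.isCompact hU)).of_isClosed_subset
    isClosed_closure (unitComp_subset_mulSet U heU)

theorem eq_closure_gen_of_mem {Z : Set G.left} (hZ : Z ∈ irreducibleComponents G.left) {x : G.left}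
    (hx : x ∈ Z) : Z = closure {gen x} := by
  have hZc := isClosed_of_mem_irreducibleComponents Z hZ
  obtain ⟨z, hz⟩ := QuasiSober.sober hZ.1 hZc
  have hle : Z ⊆ closure ({gen x} : Set G.left) := by
    rw [← hz.def]
    exact closure_minimal (Set.singleton_subset_iff.2
      (gen_specializes_of_specializes (hz.specializes hx)).mem_closure) isClosed_closure
  exact subset_antisymm hle (hZ.2 isIrreducible_singleton.closure hle)

theorem existsUnique_component (x : G.left) :
    ∃! Z : Set G.left, Z ∈ irreducibleComponents G.left ∧ x ∈ Z :=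
  ⟨irreducibleComponent x, ⟨irreducibleComponent_mem_irreducibleComponents x, mem_irreducibleComponent⟩,
    fun _ hZ => (eq_closure_gen_of_mem hZ.1 hZ.2).trans
      (eq_closure_gen_of_mem (irreducibleComponent_mem_irreducibleComponents x) mem_irreducibleComponent).symm⟩

theorem minimalPrimes_stalk_subsingleton (x : G.left) :
    (minimalPrimes (G.left.presheaf.stalk x)).Subsingleton := by
  let f := G.left.fromSpecStalk x
  obtain ⟨q, hq⟩ : gen x ∈ Set.range f := by
    rw [Scheme.range_fromSpecStalk]; exact gen_specializes x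
  suffices ∀ p ∈ minimalPrimes (G.left.presheaf.stalk x), p = q.asIdeal from
    fun p hp p' hp' => (this p hp).trans (this p' hp').symm
  intro p hp
  have hp' := hp.1.1
  let P : Spec (G.left.presheaf.stalk x) := ⟨p, hp'⟩
  have h1 : f P ⤳ x := by
    have : f P ∈ Set.range f := ⟨P, rfl⟩
    rwa [Scheme.range_fromSpecStalk] at this
  have h2 : q ⤳ P := f.isEmbedding.isInducing.specializes_iff.1 (hq ▸ gen_specializes_of_specializes h1)
  have h3 : q.asIdeal ≤ p := (PrimeSpectrum.le_iff_specializes q P).2 h2
  exact le_antisymm (hp.2 ⟨q.isPrime, bot_le⟩ h3) h3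

theorem irreducibleSpace_of_connectedSpace [ConnectedSpace G.left] : IrreducibleSpace G.left := by
  have h : IsIrreducible (unitComp G) := isIrreducible_singleton.closure
  rw [← connectedComponent_eq_unitComp, PreconnectedSpace.connectedComponent_eq_univ] at h
  exact irreducibleSpace_def _ |>.2 h

end Groth.Agent.GrpSchField
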