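import Mathlib

/-!
# Shear isomorphisms of group schemes over an arbitrary base
-/

set_option autoImplicit false
universe u
open CategoryTheory CategoryTheory.Limits MonoidalCategory CartesianMonoidalCategory MonObj GrpObj
open AlgebraicGeometry

namespace Groth.Agent.GrpSchField

variable {S : Scheme.{u}} {G : Over S} [GrpObj G]

/-- `(t, g) ↦ (t, ψ(t) g)`. -/
noncomputable def shearL {T : Over S} (ψ : T ⟶ G) : T ⊗ G ≅ T ⊗ G where
  hom := lift (fst T G) ((fst T G ≫ ψ) * snd T G)
  inv := lift (fst T G) ((fst T G ≫ ψ)⁻¹ * snd T G)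
  hom_inv_id := by apply CartesianMonoidalCategory.hom_ext <;> simp [comp_mul, comp_inv]
  inv_hom_id := by apply CartesianMonoidalCategory.hom_ext <;> simp [comp_mul, comp_inv]

theorem shearL_snd {T : Over S} (ψ : T ⟶ G) : (shearL ψ).hom ≫ snd T G = ψ ▷ G ≫ μ[G] := by
  rw [shearL, lift_snd, Hom.mul_def]
  congr 1

/-- `(g, h) ↦ (g h, h)`. -/
noncomputable def shearR : G ⊗ G ≅ G ⊗ G where
  hom := lift (fst G G * snd G G) (snd G G)
  inv := lift (fst G G * (snd G G)⁻¹) (snd G G)
  hom_inv_id := by apply CartesianMonoidalCategory.hom_ext <;> simp [comp_mul, comp_inv, _root_.mul_assoc]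
  inv_hom_id := by apply CartesianMonoidalCategory.hom_ext <;> simp [comp_mul, comp_inv, _root_.mul_assoc]

theorem isIso_left {X Y : Over S} (e : X ≅ Y) : IsIso e.hom.left :=
  ((Over.forget _).mapIso e).isIso_hom

theorem diagonal_eq : ∃ σ : G ⊗ G ≅ G ⊗ G,
    lift (𝟙 G) (𝟙 G) = ((ρ_ G).inv ≫ (𝟙 G ⊗ₘ η[G])) ≫ σ.hom := by
  refine ⟨shearL (𝟙 G), ?_⟩
  apply CartesianMonoidalCategory.hom_ext <;> simp [shearL, comp_mul, ← Hom.one_def]

omit [GrpObj G] in
theorem lift_id_left_eq_diagonal : (lift (𝟙 G) (𝟙 G)).left = pullback.diagonal G.hom := by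
  apply pullback.hom_ext
  · exact (congrArg CommaMorphism.left (lift_fst (𝟙 G) (𝟙 G))).trans (pullback.diagonal_fst G.hom).symm
  · exact (congrArg CommaMorphism.left (lift_snd (𝟙 G) (𝟙 G))).trans (pullback.diagonal_snd G.hom).symm

/-- The diagonal inherits properties of the unit section. -/
theorem diagonal_of_unit (P : MorphismProperty Scheme.{u}) [P.IsStableUnderBaseChange]
    [P.IsStableUnderComposition] [P.ContainsIdentities] (h : P η[G].left) :
    P (pullback.diagonal G.hom) := by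
  obtain ⟨σ, hσ⟩ := diagonal_eq (G := G)
  rw [← lift_id_left_eq_diagonal, hσ, Over.comp_left, Over.comp_left]
  have := isIso_left σ
  have := isIso_left (ρ_ G).symm
  refine P.comp_mem _ _ (P.comp_mem _ _ (P.of_isIso (ρ_ G).symm.hom.left) ?_) (P.of_isIso _)
  rw [Over.tensorHom_left]
  exact MorphismProperty.pullbackMap (P := P) (P.id_mem _) h (Over.w (𝟙 G)).symm (Over.w η[G]).symm

end Groth.Agent.GrpSchField
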