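import Mathlib
import Groth.Agent.GrpSchField.ConnComp
import Groth.Agent.GrpSchField.Shear
import Groth.Agent.FlatDescent.Scheme

/-!
# Flatness, surjectivity and finiteness of homomorphisms of algebraic groups
-/

set_option autoImplicit false
universe u

open CategoryTheory CategoryTheory.Limits MonoidalCategory CartesianMonoidalCategory MonObj GrpObj AlgebraicGeometry

noncomputable section

namespace Groth.Agent.GrpSchField

section Stalk

/-- Cancellation for morphisms locally of finite presentation. -/
theorem locallyOfFinitePresentation_of_comp {X Y Z : Scheme.{u}} (f : X ⟶ Y) (g : Y ⟶ Z)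
    (h : LocallyOfFinitePresentation (f ≫ g)) (hg : LocallyOfFiniteType g) : LocallyOfFinitePresentation f := by
  wlog hZ : IsAffine Z generalizing X Y Z
  · rw [IsZariskiLocalAtTarget.iff_of_iSup_eq_top (P := @LocallyOfFinitePresentation) _
      (g.iSup_preimage_eq_top (iSup_affineOpens_eq_top Z))]
    intro U
    have H := IsZariskiLocalAtTarget.restrict (P := @LocallyOfFinitePresentation) h U.1
    rw [morphismRestrict_comp] at H
    exact this _ (g ∣_ U.1) H (IsZariskiLocalAtTarget.restrict (P := @LocallyOfFiniteType) hg U.1) inferInstance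
  wlog hY : IsAffine Y generalizing X Y
  · rw [IsZariskiLocalAtTarget.iff_of_iSup_eq_top (P := @LocallyOfFinitePresentation) _ (iSup_affineOpens_eq_top Y)]
    intro U
    have H := HasRingHomProperty.comp_of_isOpenImmersion @LocallyOfFinitePresentation (f ⁻¹ᵁ U.1).ι (f ≫ g) h
    rw [← morphismRestrict_ι_assoc] at H
    exact this _ (U.1.ι ≫ g) H (HasRingHomProperty.comp_of_isOpenImmersion @LocallyOfFiniteType U.1.ι g hg) inferInstance
  wlog hX : IsAffine X generalizing X
  · rw [IsZariskiLocalAtSource.iff_of_iSup_eq_top (P := @LocallyOfFinitePresentation) _ (iSup_affineOpens_eq_top X)]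
    intro U
    have H := HasRingHomProperty.comp_of_isOpenImmersion @LocallyOfFinitePresentation U.1.ι (f ≫ g) h
    rw [← Category.assoc] at H
    exact this _ H inferInstance
  rw [HasRingHomProperty.iff_of_isAffine (P := @LocallyOfFinitePresentation)] at h ⊢
  rw [HasRingHomProperty.iff_of_isAffine (P := @LocallyOfFiniteType)] at hg
  exact RingHom.FinitePresentation.of_comp_finiteType _ h hg


variable {X Y Z : Scheme.{u}} {f : X ⟶ Y} {g : Y ⟶ Z} {x : X}

/-- Flatness at a point composes. -/
theorem flat_stalkMap_comp (hf : (f.stalkMap x).hom.Flat) (hg : (g.stalkMap (f x)).hom.Flat) :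
    ((f ≫ g).stalkMap x).hom.Flat := by
  rw [Scheme.Hom.stalkMap_comp]
  exact RingHom.Flat.comp hg hf

/-- Flatness at a point descends along a morphism flat at that point. -/
theorem flat_stalkMap_of_comp (hfg : ((f ≫ g).stalkMap x).hom.Flat) (hf : (f.stalkMap x).hom.Flat) :
    (g.stalkMap (f x)).hom.Flat := by
  rw [Scheme.Hom.stalkMap_comp] at hfg
  let := (f.stalkMap x).hom.toAlgebra
  let := (g.stalkMap (f x)).hom.toAlgebra
  let : Algebra (Z.presheaf.stalk (g (f x))) (X.presheaf.stalk x) :=
    ((f.stalkMap x).hom.comp (g.stalkMap (f x)).hom).toAlgebra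
  have : IsScalarTower (Z.presheaf.stalk (g (f x))) (Y.presheaf.stalk (f x)) (X.presheaf.stalk x) :=
    IsScalarTower.of_algebraMap_eq fun _ => rfl
  have : Module.Flat (Y.presheaf.stalk (f x)) (X.presheaf.stalk x) := hf
  have : Module.Flat (Z.presheaf.stalk (g (f x))) (X.presheaf.stalk x) := hfg
  have : IsLocalHom (algebraMap (Y.presheaf.stalk (f x)) (X.presheaf.stalk x)) :=
    inferInstanceAs (IsLocalHom (f.stalkMap x).hom)
  have : Module.FaithfullyFlat (Y.presheaf.stalk (f x)) (X.presheaf.stalk x) :=
    Module.FaithfullyFlat.of_flat_of_isLocalHom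
  exact Groth.FlatDescent.flat_of_faithfullyFlat_of_flat (M := X.presheaf.stalk x)

end Stalk

variable {K : Type u} [Field K] {G H : Over (Spec (CommRingCat.of K))} [GrpObj G] [GrpObj H]
  (f : G ⟶ H) [IsMonHom f]

theorem mul_comp_hom {T : Over (Spec (CommRingCat.of K))} (a b : T ⟶ G) : (a * b) ≫ f = (a ≫ f) * (b ≫ f) :=
  map_mul (IsMonHom.monoidHom f T) a b

theorem flat_mul_left : Flat μ[G].left := by
  have h : μ[G] = shearR.hom ≫ fst G G := by
    simp [shearR, Hom.mul_def]
  rw [h, Over.comp_left]
  have := isIso_left (shearR (G := G))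
  have : Flat (fst G G).left := inferInstanceAs (Flat (pullback.fst G.hom G.hom))
  infer_instance

/-- The flat locus of a homomorphism is stable under translation. -/
theorem flat_stalkMap_mul (W : G.left.Opens) (hW : ∀ x ∈ W, (f.left.stalkMap x).hom.Flat) (z : (G ⊗ G).left)
    (hz : (fst G G).left z ∈ W) : (f.left.stalkMap (μ[G].left z)).hom.Flat := by
  let j : Over.mk (W.ι ≫ G.hom) ⟶ G := Over.homMk W.ι
  have hj : Flat (j ≫ f).left := by
    refine Flat.of_stalkMap _ fun w => flat_stalkMap_comp (g := f.left) (Flat.stalkMap W.ι w) (hW _ w.2)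
  have hjf : Flat ((j ▷ G).left ≫ (f ▷ G).left) := by
    rw [← Over.comp_left, ← comp_whiskerRight, ← tensorHom_id, Over.tensorHom_left]
    exact MorphismProperty.pullbackMap (P := @Flat) hj (MorphismProperty.id_mem _ _) (Over.w (j ≫ f)).symm (Over.w (𝟙 G)).symm
  have hjo : IsOpenImmersion (j ▷ G).left := by
    rw [← tensorHom_id, Over.tensorHom_left]
    exact MorphismProperty.pullbackMap (P := @IsOpenImmersion) (inferInstanceAs (IsOpenImmersion W.ι))
      (MorphismProperty.id_mem _ _) (Over.w j).symm (Over.w (𝟙 G)).symm
  obtain ⟨z', rfl⟩ : z ∈ Set.range (j ▷ G).left := by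
    rw [← tensorHom_id, range_tensorHom]
    exact ⟨⟨⟨_, hz⟩, rfl⟩, _, rfl⟩
  have h1 : ((f ▷ G).left.stalkMap ((j ▷ G).left z')).hom.Flat :=
    flat_stalkMap_of_comp (Flat.stalkMap _ z') (Flat.stalkMap _ z')
  let ψ : H ⊗ G ≅ H ⊗ G :=
    { hom := lift (fst H G * (snd H G ≫ f)) (snd H G)
      inv := lift (fst H G * (snd H G ≫ f)⁻¹) (snd H G)
      hom_inv_id := by apply CartesianMonoidalCategory.hom_ext <;> simp [comp_mul, comp_inv, _root_.mul_assoc]
      inv_hom_id := by apply CartesianMonoidalCategory.hom_ext <;> simp [comp_mul, comp_inv, _root_.mul_assoc] }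
  have hg : Flat (ψ.hom ≫ fst H G).left := by
    rw [Over.comp_left]
    have := isIso_left ψ
    have : Flat (fst H G).left := inferInstanceAs (Flat (pullback.fst H.hom G.hom))
    infer_instance
  have he : μ[G] ≫ f = f ▷ G ≫ ψ.hom ≫ fst H G := by
    rw [show μ[G] = fst G G * snd G G by simp [Hom.mul_def], mul_comp_hom]
    simp [ψ, comp_mul]
  have he' : μ[G].left ≫ f.left = (f ▷ G).left ≫ (ψ.hom ≫ fst H G).left := by
    rw [← Over.comp_left, ← Over.comp_left, he]
  have hmu := flat_mul_left (G := G)
  refine flat_stalkMap_of_comp ?_ (Flat.stalkMap _ _)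
  rw [he']
  exact flat_stalkMap_comp h1 (Flat.stalkMap _ _)

/-- A surjective homomorphism onto a reduced group is flat. -/
theorem flat_of_surjective [LocallyOfFiniteType G.hom] [LocallyOfFiniteType H.hom] [IsReduced H.left]
    [Surjective f.left] : Flat f.left := by
  have : IsLocallyNoetherian H.left := LocallyOfFiniteType.isLocallyNoetherian H.hom
  have : LocallyOfFiniteType (f.left ≫ H.hom) := by rw [Over.w f]; infer_instance
  have : LocallyOfFiniteType f.left := locallyOfFiniteType_of_comp f.left H.hom
  let C := irreducibleComponent (e H)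
  let c := (isIrreducible_irreducibleComponent (x := e H)).genericPoint
  have hc : IsField (H.left.presheaf.stalk c) := isField_stalk_of_closure_mem_irreducibleComponents _ _ (by
    rw [(isIrreducible_irreducibleComponent (x := e H)).closure_genericPoint isClosed_irreducibleComponent]
    exact irreducibleComponent_mem_irreducibleComponents _)
  obtain ⟨x, hx⟩ := f.left.surjective c
  let W : G.left.Opens := ⟨_, Groth.FlatDescent.isOpen_flatLocus_hom f.left⟩
  have hxW : x ∈ W := by
    have hF : IsField (H.left.presheaf.stalk (f.left x)) := hx ▸ hc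
    let := hF.toField
    show (f.left.stalkMap x).hom.Flat
    let := (f.left.stalkMap x).hom.toAlgebra
    exact (inferInstance : Module.Flat (H.left.presheaf.stalk (f.left x)) (G.left.presheaf.stalk x))
  refine Flat.of_stalkMap _ fun y => ?_
  obtain ⟨z', h1, h2⟩ := Scheme.Pullback.exists_preimage_pullback (f := G.hom) (g := G.hom) x y
    (Subsingleton.elim (α := Spec (CommRingCat.of K)) _ _)
  let σ := shearL (𝟙 G)
  let z := σ.inv.left z'
  have hz1 : (fst G G).left z = x := by
    rw [← comp_left_apply, show σ.inv ≫ fst G G = fst G G by simp [σ, shearL]]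
    exact h1
  have hz2 : μ[G].left z = y := by
    rw [← comp_left_apply]
    have : σ.inv ≫ μ[G] = snd G G := by
      rw [Iso.inv_comp_eq, shearL_snd]; simp
    rw [this]
    exact h2
  have := flat_stalkMap_mul f W (fun _ h => h) z (hz1 ▸ hxW)
  rwa [hz2] at this

/-- An open homomorphism to a connected group is surjective. -/
theorem surjective_of_flat [Flat f.left] [LocallyOfFinitePresentation f.left] [ConnectedSpace H.left] :
    Surjective f.left := by
  have ho : IsOpen (Set.range f.left) := f.left.isOpenMap.isOpen_range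
  have hc : IsClosed (Set.range f.left) := isClosed_range f ho.isLocallyClosed
  refine ⟨Set.range_eq_univ.mp ?_⟩
  exact IsClopen.eq_univ ⟨hc, ho⟩ ⟨_, e_mem_range f⟩

/-- A flat surjective quasi-finite homomorphism is finite. -/
theorem isFinite_of_flat [Flat f.left] [Surjective f.left] [LocallyQuasiFinite f.left] [QuasiCompact f.left]
    [IsSeparated f.left] [LocallyOfFiniteType f.left] : IsFinite f.left := by
  have hN : IsFinite (pullback.snd f.left η[H].left) := by
    have : IsLocallyArtinian (𝟙_ (Over (Spec (CommRingCat.of K)))).left :=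
      inferInstanceAs (IsLocallyArtinian (Spec (CommRingCat.of K)))
    exact IsFinite.of_locallyQuasiFinite _
  have hsq : IsPullback (pullback.fst f (toUnit G ≫ η[H])).left (pullback.snd f (toUnit G ≫ η[H])).left
      f.left ((toUnit G).left ≫ η[H].left) :=
    (IsPullback.of_hasPullback f (toUnit G ≫ η[H])).map (Over.forget _)
  have hq : IsFinite (pullback.snd f (toUnit G ≫ η[H])).left := by
    let l := pullback.lift (pullback.fst f (toUnit G ≫ η[H])).left
      ((pullback.snd f (toUnit G ≫ η[H])).left ≫ (toUnit G).left) (by rw [hsq.w, Category.assoc])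
    have h2 : IsPullback l (pullback.snd f (toUnit G ≫ η[H])).left (pullback.snd f.left η[H].left) (toUnit G).left :=
      IsPullback.of_right (by rw [pullback.lift_fst]; exact hsq) (pullback.lift_snd _ _ _) (IsPullback.of_hasPullback f.left η[H].left)
    exact MorphismProperty.of_isPullback h2 hN
  let p := pullback.fst f (toUnit G ≫ η[H])
  let q := pullback.snd f (toUnit G ≫ η[H])
  have hpq : p ≫ f = 1 := by
    rw [pullback.condition, ← Category.assoc, toUnit_unique (_ ≫ toUnit G) (toUnit _), Hom.one_def]
  let e : pullback f (toUnit G ≫ η[H]) ≅ pullback f f :=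
    { hom := pullback.lift (q * p) q (by rw [mul_comp_hom, hpq, _root_.mul_one])
      inv := pullback.lift ((pullback.snd f f)⁻¹ * pullback.fst f f) (pullback.snd f f) (by
        rw [mul_comp_hom, pullback.condition]
        have : (pullback.snd f f)⁻¹ ≫ f = (pullback.snd f f ≫ f)⁻¹ := map_inv (IsMonHom.monoidHom f _) _
        rw [this, inv_mul_cancel, ← Category.assoc, toUnit_unique (_ ≫ toUnit G) (toUnit _), Hom.one_def])
      hom_inv_id := by
        apply pullback.hom_ext
        · rw [Category.assoc, pullback.lift_fst]; simp only [comp_mul, comp_inv]; erw [pullback.lift_fst, pullback.lift_snd]; simp [p, q]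
        · rw [Category.assoc, pullback.lift_snd]; erw [pullback.lift_snd]; exact (Category.id_comp _).symm
      inv_hom_id := by
        apply pullback.hom_ext
        · rw [Category.assoc, pullback.lift_fst, comp_mul, pullback.lift_snd, pullback.lift_fst]; simp
        · rw [Category.assoc, pullback.lift_snd, pullback.lift_snd]; simp }
  have huc : UniversallyClosed (pullback.snd f f).left := by
    have : (pullback.snd f f).left = e.inv.left ≫ q.left := by
      rw [← Over.comp_left]; exact congrArg Over.Hom.left (pullback.lift_snd _ _ _).symm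
    rw [this]
    have : IsIso e.inv.left := isIso_left e.symm
    have : IsFinite q.left := hq
    infer_instance
  have hsq2 : IsPullback (pullback.fst f f).left (pullback.snd f f).left f.left f.left :=
    (IsPullback.of_hasPullback f f).map (Over.forget _)
  have : UniversallyClosed f.left :=
    MorphismProperty.of_isPullback_of_descendsAlong (Q := @Surjective ⊓ @Flat ⊓ @QuasiCompact) hsq2.flip
      ⟨⟨inferInstance, inferInstance⟩, inferInstance⟩ huc
  have : IsProper f.left := {}
  exact IsFinite.of_isProper_of_locallyQuasiFinite f.left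

end Groth.Agent.GrpSchField
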