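import Groth.Agent.GrpSchField.Points
import Mathlib.Topology.LocallyClosed

/-! Subsets closed under the group law. -/

open CategoryTheory Limits AlgebraicGeometry MonoidalCategory CartesianMonoidalCategory MonObj GrpObj

universe u

namespace Groth.Agent.GrpSchField

variable {K : Type u} [Field K] {G W X Y : Over (Spec (CommRingCat.of K))}

theorem comp_left_apply {A B C : Over (Spec (CommRingCat.of K))} (f : A ⟶ B) (g : B ⟶ C) (x : A.left) :
    (f ≫ g).left x = g.left (f.left x) := by
  rw [Over.comp_left, Scheme.Hom.comp_apply]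

theorem lift_fst_apply (f : W ⟶ X) (g : W ⟶ Y) (w : W.left) :
    (fst X Y).left ((lift f g).left w) = f.left w := by
  rw [← comp_left_apply, lift_fst]

theorem lift_snd_apply (f : W ⟶ X) (g : W ⟶ Y) (w : W.left) :
    (snd X Y).left ((lift f g).left w) = g.left w := by
  rw [← comp_left_apply, lift_snd]

variable [GrpObj G]

instance isSeparated_hom : IsSeparated G.hom := by
  let σ : G ⊗ G ≅ G ⊗ G :=
    { hom := lift (fst G G) ((fst G G)⁻¹ * snd G G)
      inv := lift (fst G G) (fst G G * snd G G)
      hom_inv_id := by ext <;> simp [comp_mul]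
      inv_hom_id := by ext <;> simp [comp_mul, comp_inv] }
  let d : G ⟶ G ⊗ G := lift (𝟙 G) (𝟙 G)
  have hd : d = ((ρ_ G).inv ≫ (𝟙 G ⊗ₘ η[G])) ≫ σ.inv := by
    rw [Iso.eq_comp_inv]
    ext <;> simp [d, σ, comp_mul, comp_inv, Hom.one_def]
  have h1 : IsClosedImmersion (𝟙 G ⊗ₘ η[G]).left := by
    rw [Over.tensorHom_left]
    have : MorphismProperty.IsStableUnderComposition @IsClosedImmersion :=
      MorphismProperty.IsMultiplicative.toIsStableUnderComposition
    exact MorphismProperty.pullbackMap (P := @IsClosedImmersion)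
      (show IsClosedImmersion (𝟙 G.left) from inferInstance)
      (show IsClosedImmersion η[G].left from inferInstance) (Over.w (𝟙 G)).symm (Over.w η[G]).symm
  have h2 : IsClosedImmersion d.left := by
    rw [hd, Over.comp_left, Over.comp_left]
    have : IsIso σ.inv.left := ((Over.forget _).mapIso σ).isIso_inv
    have : IsIso (ρ_ G).inv.left := ((Over.forget _).mapIso (ρ_ G)).isIso_inv
    exact @IsClosedImmersion.comp _ _ _ _ _ (@IsClosedImmersion.comp _ _ _ _ _ inferInstance h1) inferInstance
  refine ⟨?_⟩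
  have : d.left = pullback.diagonal G.hom := by
    apply pullback.hom_ext
    · exact (congrArg CommaMorphism.left (lift_fst (𝟙 G) (𝟙 G))).trans (pullback.diagonal_fst G.hom).symm
    · exact (congrArg CommaMorphism.left (lift_snd (𝟙 G) (𝟙 G))).trans (pullback.diagonal_snd G.hom).symm
  exact this ▸ h2

/-- The set of products of two subsets. -/
noncomputable def mulSet (s t : Set G.left) : Set G.left :=
  μ[G].left '' ((fst G G).left ⁻¹' s ∩ (snd G G).left ⁻¹' t)

theorem mul_apply_mem {s t : Set G.left} (f g : W ⟶ G) (w : W.left) (hf : f.left w ∈ s)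
    (hg : g.left w ∈ t) : (f * g).left w ∈ mulSet s t := by
  refine ⟨(lift f g).left w, ⟨?_, ?_⟩, ?_⟩
  · rw [Set.mem_preimage, lift_fst_apply]; exact hf
  · rw [Set.mem_preimage, lift_snd_apply]; exact hg
  · rw [← comp_left_apply]; rfl

theorem inv_apply (f : W ⟶ G) (w : W.left) : (f⁻¹).left w = ι[G].left (f.left w) := by
  rw [Hom.inv_def, comp_left_apply]

theorem mulSet_closure_left {s t c : Set G.left} (hc : IsClosed c) (h : mulSet s t ⊆ c) :
    mulSet (closure s) t ⊆ c := by
  rintro _ ⟨p, ⟨hp1, hp2⟩, rfl⟩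
  refine closure_minimal (Set.image_subset_iff.1 ?_) (hc.preimage μ[G].left.continuous)
    (mem_closure_fibre p s hp1)
  exact (Set.image_mono (Set.inter_subset_inter le_rfl fun x (hx : _ = _) => by
    rw [Set.mem_preimage, hx]; exact hp2)).trans h

theorem mulSet_closure_right {s t c : Set G.left} (hc : IsClosed c) (h : mulSet s t ⊆ c) :
    mulSet s (closure t) ⊆ c := by
  rintro _ ⟨p, ⟨hp1, hp2⟩, rfl⟩
  refine closure_minimal (Set.image_subset_iff.1 ?_) (hc.preimage μ[G].left.continuous)
    (mem_closure_fibre' p t hp2)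
  exact (Set.image_mono (Set.inter_subset_inter (fun x (hx : _ = _) => by
    rw [Set.mem_preimage, hx]; exact hp1) le_rfl)).trans h

/-- The identity point. -/
noncomputable abbrev e (G : Over (Spec (CommRingCat.of K))) [GrpObj G] : G.left :=
  η[G].left (IsLocalRing.closedPoint K)

theorem one_apply (w : W.left) : (1 : W ⟶ G).left w = e G := by
  rw [Hom.one_def, comp_left_apply]
  exact congrArg η[G].left (Subsingleton.elim (α := Spec (CommRingCat.of K)) _ _)

theorem pt_subsingleton {Z : Over (Spec (CommRingCat.of K))} (z : Z.left) :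
    Subsingleton (pt z).left :=
  inferInstanceAs (Subsingleton (Spec (Z.left.residueField z)))

/-- The canonical point of `pt z`. -/
noncomputable abbrev ptPt {Z : Over (Spec (CommRingCat.of K))} (z : Z.left) : (pt z).left :=
  IsLocalRing.closedPoint (Z.left.residueField z)

theorem ptι_apply {Z : Over (Spec (CommRingCat.of K))} (z : Z.left) (s : (pt z).left) :
    (ptι z).left s = z :=
  Z.left.fromSpecResidueField_apply z s

/-- A locally closed subgroup is closed. -/
theorem isClosed_of_subgroup {s : Set G.left} (hs : IsLocallyClosed s) (he : e G ∈ s)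
    (hi : ∀ x ∈ s, ι[G].left x ∈ s) (hm : mulSet s s ⊆ s) : IsClosed s := by
  refine isClosed_of_closure_subset fun g hg => ?_
  have hi' : ∀ x ∈ closure s, ι[G].left x ∈ closure s := fun x hx =>
    closure_mono (Set.image_subset_iff.2 hi)
      (image_closure_subset_closure_image ι[G].left.continuous ⟨x, hx, rfl⟩)
  have hm' : mulSet (closure s) (closure s) ⊆ closure s :=
    mulSet_closure_right isClosed_closure
      (mulSet_closure_left isClosed_closure (hm.trans subset_closure))
  obtain ⟨O, C, hO, hC, rfl⟩ := hs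
  let T := pt g
  let gT : T ⟶ G := ptι g
  let φ : G ⊗ T ⟶ G := (fst G T)⁻¹ * (snd G T ≫ gT)
  let σ : T ⟶ G ⊗ T := lift gT (𝟙 T)
  let p := σ.left (ptPt g)
  have hσφ : σ ≫ φ = 1 := by simp [σ, φ, comp_mul, comp_inv]
  have hp1 : p ∈ φ.left ⁻¹' O := by
    rw [Set.mem_preimage, show φ.left p = e G by rw [← comp_left_apply, hσφ, one_apply]]
    exact he.1
  have hp2 : p ∈ closure ((fst G T).left ⁻¹' (O ∩ C)) := by
    rw [closure_fst_preimage, Set.mem_preimage, lift_fst_apply, ptι_apply]
    exact hg
  obtain ⟨u, hu1, hu2⟩ := mem_closure_iff.1 hp2 _ (hO.preimage φ.left.continuous) hp1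
  have hφu : φ.left u ∈ O ∩ C := by
    refine ⟨hu1, hC.closure_eq ▸ closure_mono Set.inter_subset_right (hm' ?_)⟩
    refine mul_apply_mem _ _ u ?_ ?_
    · rw [inv_apply]; exact hi' _ (subset_closure hu2)
    · rw [comp_left_apply, ptι_apply]; exact hg
  have := hm (mul_apply_mem (fst G T) φ u hu2 hφu)
  rwa [mul_inv_cancel_left, comp_left_apply, ptι_apply] at this

variable {H : Over (Spec (CommRingCat.of K))} [GrpObj H] (ψ : H ⟶ G) [IsMonHom ψ]

theorem e_mem_range : e G ∈ Set.range ψ.left :=
  ⟨e H, (comp_left_apply η[H] ψ _).symm.trans (by rw [IsMonHom.one_hom])⟩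

theorem inv_mem_range {x : G.left} (hx : x ∈ Set.range ψ.left) : ι[G].left x ∈ Set.range ψ.left := by
  obtain ⟨y, rfl⟩ := hx
  refine ⟨ι[H].left y, ?_⟩
  have h : ι[H] ≫ ψ = ψ ≫ ι[G] := by
    rw [GrpObj.inv_eq_inv, GrpObj.inv_eq_inv]
    simpa [GrpObj.comp_inv] using map_inv (IsMonHom.monoidHom ψ H) (𝟙 H)
  rw [← comp_left_apply, ← comp_left_apply, h]

theorem mulSet_range : mulSet (Set.range ψ.left) (Set.range ψ.left) ⊆ Set.range ψ.left := by
  rintro _ ⟨p, hp, rfl⟩
  rw [← range_tensorHom] at hp
  obtain ⟨q, rfl⟩ := hp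
  exact ⟨μ[H].left q, by rw [← comp_left_apply, ← comp_left_apply, IsMonHom.mul_hom]⟩

/-- A homomorphism with locally closed image has closed image. -/
theorem isClosed_range (h : IsLocallyClosed (Set.range ψ.left)) : IsClosed (Set.range ψ.left) :=
  isClosed_of_subgroup h (e_mem_range ψ) (fun _ => inv_mem_range ψ) (mulSet_range ψ)

omit ψ in
/-- A product of dense opens is everything. -/
theorem mulSet_dense (U V : G.left.Opens) (hU : Dense (U : Set G.left)) (hV : Dense (V : Set G.left)) :
    mulSet (U : Set G.left) V = Set.univ := by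
  refine Set.eq_univ_of_forall fun g => ?_
  let T := pt g
  let gT : T ⟶ G := ptι g
  let φ : G ⊗ T ≅ G ⊗ T :=
    { hom := lift ((fst G T)⁻¹ * (snd G T ≫ gT)) (snd G T)
      inv := lift ((snd G T ≫ gT) * (fst G T)⁻¹) (snd G T)
      hom_inv_id := by ext <;> simp [comp_mul, comp_inv]
      inv_hom_id := by ext <;> simp [comp_mul, comp_inv] }
  have hd1 : Dense ((fst G T).left ⁻¹' (U : Set G.left)) := hU.preimage (fst G T).left.isOpenMap
  have hd2 : ((fst G T).left ⁻¹' (V : Set G.left)).Nonempty :=
    (hV.preimage (fst G T).left.isOpenMap).inter_open_nonempty _ isOpen_univ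
      ⟨(lift gT (𝟙 T)).left (ptPt g), trivial⟩ |>.mono Set.inter_subset_right
  obtain ⟨v, hv⟩ := hd2
  obtain ⟨u, hu2, hu1⟩ := hd1.inter_open_nonempty _
    ((V.2.preimage (fst G T).left.continuous).preimage φ.hom.left.continuous)
    ⟨φ.inv.left v, by
      rw [Set.mem_preimage, ← comp_left_apply, Iso.inv_hom_id]; exact hv⟩
  rw [Set.mem_preimage, Set.mem_preimage, lift_fst_apply] at hu2
  have := mul_apply_mem (fst G T) ((fst G T)⁻¹ * (snd G T ≫ gT)) u hu1 hu2
  rwa [mul_inv_cancel_left, comp_left_apply, ptι_apply] at this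

end Groth.Agent.GrpSchField
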