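import Mathlib
import Groth.Agent.GrpSchField.Subgroup

/-!
# All closed points of a group scheme locally of finite type over a field have the same codimension
-/

set_option autoImplicit false
universe u
open CategoryTheory CategoryTheory.Limits MonoidalCategory CartesianMonoidalCategory MonObj GrpObj
open AlgebraicGeometry Order

namespace Groth.Agent.GrpSchField

/-- Integral morphisms are strictly monotone for specialisation. -/
theorem strictMono_of_isIntegralHom {X Y : Scheme.{u}} (π : X ⟶ Y) [IsIntegralHom π] :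
    StrictMono π := by
  intro x y hxy
  have hs : y ⤳ x := hxy.le
  refine lt_of_le_not_ge (hs.map π.continuous) fun hge => ?_
  have heq : π y = π x := ((hs.map π.continuous).antisymm hge).eq
  obtain ⟨_, ⟨U, hU, rfl⟩, hxU, -⟩ :=
    Y.isBasis_affineOpens.exists_subset_of_mem_open (Set.mem_univ (π x)) isOpen_univ
  have hV : IsAffineOpen (π ⁻¹ᵁ U) := hU.preimage π
  have hyV : y ∈ π ⁻¹ᵁ U := hs.mem_open (π ⁻¹ᵁ U).2 hxU
  have : IsOpenImmersion hU.fromSpec := hU.isOpenImmersion_fromSpec
  have : IsOpenImmersion hV.fromSpec := hV.isOpenImmersion_fromSpec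
  obtain ⟨q, hq⟩ : y ∈ Set.range hV.fromSpec := by rw [hV.range_fromSpec]; exact hyV
  obtain ⟨p, hp⟩ : x ∈ Set.range hV.fromSpec := by rw [hV.range_fromSpec]; exact hxU
  let φ := π.appLE U (π ⁻¹ᵁ U) le_rfl
  have hφ : ∀ r, hU.fromSpec (PrimeSpectrum.comap φ.hom r) = π (hV.fromSpec r) := fun r => by
    have h := hU.SpecMap_appLE_fromSpec π hV le_rfl
    exact (Scheme.Hom.comp_apply (Spec.map φ) hU.fromSpec r).symm.trans
      ((congrArg (fun f : Spec _ ⟶ Y => f r) h).trans (Scheme.Hom.comp_apply hV.fromSpec π r))
  have hcomap : PrimeSpectrum.comap φ.hom q = PrimeSpectrum.comap φ.hom p :=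
    hU.fromSpec.isOpenEmbedding.injective ((hφ q).trans ((congrArg π hq).trans
      (heq.trans ((congrArg π hp).symm.trans (hφ p).symm))))
  have hqp : q ⤳ p := hV.fromSpec.isOpenEmbedding.isInducing.specializes_iff.mp (by
    rw [hq, hp]; exact hs)
  have hle : q.asIdeal ≤ p.asIdeal := (PrimeSpectrum.le_iff_specializes q p).mpr hqp
  have hne : q.asIdeal ≠ p.asIdeal := fun h => by
    have : q = p := PrimeSpectrum.ext h
    exact hxy.ne (hp ▸ hq ▸ congrArg hV.fromSpec this.symm)
  have hint : φ.hom.IsIntegral := by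
    have := IsIntegralHom.isIntegral_app π U hU
    simpa [φ, Scheme.Hom.app_eq_appLE] using this
  algebraize [φ.hom]
  have : q.asIdeal.IsPrime := q.isPrime
  have hlt := Ideal.IsIntegral.comap_lt_comap (R := Γ(Y, U)) (hle.lt_of_ne hne)
  exact hlt.ne (congrArg PrimeSpectrum.asIdeal hcomap)

/-- An integral flat morphism preserves codimension of points. -/
theorem coheight_eq_of_integral_flat {X Y : Scheme.{u}} (π : X ⟶ Y) [IsIntegralHom π] [Flat π]
    (x : X) : coheight x = coheight (π x) := by
  refine coheight_eq_of_strictMono π (strictMono_of_isIntegralHom π) (fun a b hab => ?_) x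
  obtain ⟨a', ha', rfl⟩ := Flat.generalizingMap π hab.le
  exact ⟨a', lt_of_le_not_ge ha' (fun h => hab.not_ge (Specializes.map h π.continuous)), rfl⟩

variable {K : Type u} [Field K] (G : Over (Spec (CommRingCat.of K))) [GrpObj G]

/-- Right translation of `G ⊗ T` over `T` by a `T`-point. -/
noncomputable def transT {T : Over (Spec (CommRingCat.of K))} (s : T ⟶ G) : G ⊗ T ⟶ G ⊗ T :=
  lift (fst G T * (snd G T ≫ s)) (snd G T)

variable {G} in
theorem lift_transT {W T : Over (Spec (CommRingCat.of K))} (s : T ⟶ G) (a : W ⟶ G) (b : W ⟶ T) :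
    lift a b ≫ transT G s = lift (a * (b ≫ s)) b := by
  apply CartesianMonoidalCategory.hom_ext <;>
    simp [transT, Hom.mul_def, comp_lift_assoc]

variable {G} in
theorem transT_comp {T : Over (Spec (CommRingCat.of K))} (s r : T ⟶ G) :
    transT G s ≫ transT G r = transT G (s * r) := by
  conv_lhs => arg 1; rw [transT]
  rw [lift_transT, transT, _root_.mul_assoc]
  congr 2
  rw [Hom.mul_def, Hom.mul_def, comp_lift_assoc]

variable {G} in
theorem transT_one {T : Over (Spec (CommRingCat.of K))} : transT G (1 : T ⟶ G) = 𝟙 (G ⊗ T) := by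
  rw [transT]
  apply CartesianMonoidalCategory.hom_ext <;> simp

/-- All closed points of a group scheme locally of finite type over a field have the same
codimension. -/
theorem coheight_closed_eq [LocallyOfFiniteType G.hom] {g g' : G.left}
    (hg : IsClosed ({g} : Set G.left)) (hg' : IsClosed ({g'} : Set G.left)) :
    coheight g = coheight g' := by
  let Ω := AlgebraicClosure K
  let t : Spec (CommRingCat.of Ω) ⟶ Spec (CommRingCat.of K) :=
    Spec.map (CommRingCat.ofHom (algebraMap K Ω))
  have : IsIntegralHom t := IsIntegralHom.SpecMap_iff.mpr (algebraMap_isIntegral_iff.mpr inferInstance)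
  let T : Over (Spec (CommRingCat.of K)) := Over.mk t
  have : Surjective t := ⟨fun x => ⟨IsLocalRing.closedPoint Ω,
    Subsingleton.elim (α := Spec (CommRingCat.of K)) _ _⟩⟩
  have : Flat t := Flat.SpecMap_iff.mpr (RingHom.flat_algebraMap_iff.mpr inferInstance)
  let π : (G ⊗ T).left ⟶ G.left := (fst G T).left
  have : IsIntegralHom π := by dsimp [π, T]; infer_instance
  have : Surjective π := by dsimp [π, T]; infer_instance
  have : Flat π := flat_fst_left G T
  have hlft : LocallyOfFiniteType (snd G T).left := by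
    dsimp [T]; infer_instance
  have key : ∀ a : G.left, IsClosed ({a} : Set G.left) →
      ∃ s : T ⟶ G, coheight a = coheight ((lift s (𝟙 T)).left (IsLocalRing.closedPoint Ω)) := by
    intro a ha
    obtain ⟨a', rfl⟩ := Surjective.surj (f := π) a
    have ha' : IsClosed ({a'} : Set (G ⊗ T).left) := by
      refine isClosed_of_closure_subset fun y hy => ?_
      have hs : a' ⤳ y := specializes_iff_mem_closure.mpr hy
      by_contra hne
      have hlt : y < a' := lt_of_le_not_ge hs fun h => hne ((hs.antisymm h).eq.symm)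
      have hy' : π y ∈ ({π a'} : Set G.left) :=
        ha.closure_subset (specializes_iff_mem_closure.mp (hs.map π.continuous))
      exact (strictMono_of_isIntegralHom π hlt).ne hy'
    let p := pointOfClosedPoint (snd G T).left a' ha'
    have hp : p ≫ (snd G T).left = 𝟙 _ := pointOfClosedPoint_comp _ _ _
    let q : T ⟶ G ⊗ T := Over.homMk p (by
      rw [← Over.w (snd G T), ← Category.assoc, hp]
      exact Category.id_comp T.hom)
    have hq : lift (q ≫ fst G T) (𝟙 T) = q := by
      apply CartesianMonoidalCategory.hom_ext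
      · simp
      · rw [lift_snd]
        ext : 1
        exact hp.symm
    refine ⟨q ≫ fst G T, ?_⟩
    rw [hq, ← coheight_eq_of_integral_flat π a']
    exact congrArg coheight (pointOfClosedPoint_apply (snd G T).left a' ha' _).symm
  obtain ⟨s, hs⟩ := key g hg
  obtain ⟨r, hr⟩ := key g' hg'
  let σ : G ⊗ T ≅ G ⊗ T :=
    { hom := transT G (s⁻¹ * r), inv := transT G (r⁻¹ * s)
      hom_inv_id := by rw [transT_comp]; simp [_root_.mul_assoc, transT_one]
      inv_hom_id := by rw [transT_comp]; simp [_root_.mul_assoc, transT_one] }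
  have h1 : lift s (𝟙 T) ≫ σ.hom = lift r (𝟙 T) := by
    show lift s (𝟙 T) ≫ transT G (s⁻¹ * r) = _
    rw [lift_transT]
    simp
  rw [hs, hr]
  have h2 := (congrArg (fun f : T ⟶ G ⊗ T => f.left (IsLocalRing.closedPoint Ω)) h1).symm.trans
    (comp_left_apply _ σ.hom _)
  rw [h2]
  have : IsOpenImmersion ((Over.forget _).mapIso σ).hom := inferInstance
  have : IsOpenImmersion σ.hom.left := this
  exact (coheight_eq_of_isOpenImmersion σ.hom.left).symm

end Groth.Agent.GrpSchField
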