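import Mathlib
import Groth.Agent.GrpSchField.Isogeny

/-!
# Flat points of a homomorphism of group schemes over an arbitrary base
-/

set_option autoImplicit false
universe u

open CategoryTheory CategoryTheory.Limits MonoidalCategory CartesianMonoidalCategory MonObj GrpObj AlgebraicGeometry

noncomputable section

namespace Groth.Agent.GrpSchField

/-- The spectrum of a local ring of a scheme is flat over the scheme. -/
theorem flat_fromSpecStalk (X : Scheme.{u}) (x : X) : Flat (X.fromSpecStalk x) := by
  obtain ⟨_, ⟨U, hU, rfl⟩, hxU, -⟩ :=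
    X.isBasis_affineOpens.exists_subset_of_mem_open (Set.mem_univ x) isOpen_univ
  rw [← hU.fromSpecStalk_eq_fromSpecStalk hxU]
  let := X.presheaf.algebra_section_stalk (U := U) ⟨x, hxU⟩
  have := hU.isLocalization_stalk ⟨x, hxU⟩
  have : Flat (Spec.map (X.presheaf.germ U x hxU)) := by
    rw [Flat.SpecMap_iff]
    exact RingHom.flat_algebraMap_iff.mpr (IsLocalization.flat (X.presheaf.stalk x) (hU.primeIdealOf ⟨x, hxU⟩).asIdeal.primeCompl)
  have : IsOpenImmersion hU.fromSpec := hU.isOpenImmersion_fromSpec
  show Flat (Spec.map (X.presheaf.germ U x hxU) ≫ hU.fromSpec)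
  infer_instance

section Base

variable {S : Scheme.{u}} {G H : Over S} [GrpObj G] [GrpObj H] (f : G ⟶ H) [IsMonHom f] [Flat G.hom]

/-- Flatness at a point spreads along translations. -/
theorem flat_stalkMap_translate {T : Over S} (j : T ⟶ G) [Flat j.left] (hj : Flat (j ≫ f).left) (z : (G ⊗ G).left)
    (hz : (fst G G).left z ∈ Set.range j.left) : (f.left.stalkMap (μ[G].left z)).hom.Flat := by
  have hjf : Flat ((j ▷ G).left ≫ (f ▷ G).left) := by
    rw [← Over.comp_left, ← comp_whiskerRight, ← tensorHom_id, Over.tensorHom_left]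
    exact MorphismProperty.pullbackMap (P := @Flat) hj (MorphismProperty.id_mem _ _) (Over.w (j ≫ f)).symm
      (Over.w (𝟙 G)).symm
  have hjo : Flat (j ▷ G).left := by
    rw [← tensorHom_id, Over.tensorHom_left]
    exact MorphismProperty.pullbackMap (P := @Flat) inferInstance
      (MorphismProperty.id_mem _ _) (Over.w j).symm (Over.w (𝟙 G)).symm
  obtain ⟨z', rfl⟩ : z ∈ Set.range (j ▷ G).left := by
    rw [← tensorHom_id, Over.tensorHom_left]
    refine (Scheme.Pullback.range_map _ _ _ _ _ _ _ _ _).ge ?_
    exact ⟨hz, _, rfl⟩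
  have h1 : ((f ▷ G).left.stalkMap ((j ▷ G).left z')).hom.Flat :=
    flat_stalkMap_of_comp (Flat.stalkMap _ z') (Flat.stalkMap _ z')
  let ψ : H ⊗ G ≅ H ⊗ G :=
    { hom := lift (fst H G * (snd H G ≫ f)) (snd H G)
      inv := lift (fst H G * (snd H G ≫ f)⁻¹) (snd H G)
      hom_inv_id := by apply CartesianMonoidalCategory.hom_ext <;> simp [comp_mul, comp_inv, _root_.mul_assoc]
      inv_hom_id := by apply CartesianMonoidalCategory.hom_ext <;> simp [comp_mul, comp_inv, _root_.mul_assoc] }
  have hg : Flat (ψ.hom ≫ fst H G).left := by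
    rw [Over.comp_left]
    have := isIso_left ψ
    have : Flat (fst H G).left := inferInstanceAs (Flat (pullback.fst H.hom G.hom))
    infer_instance
  have hmu : Flat μ[G].left := by
    have h : μ[G] = shearR.hom ≫ fst G G := by simp [shearR, Hom.mul_def]
    rw [h, Over.comp_left]
    have := isIso_left (shearR (G := G))
    have : Flat (fst G G).left := inferInstanceAs (Flat (pullback.fst G.hom G.hom))
    infer_instance
  have he : μ[G] ≫ f = f ▷ G ≫ ψ.hom ≫ fst H G := by
    rw [show μ[G] = fst G G * snd G G by simp [Hom.mul_def],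
      show (fst G G * snd G G) ≫ f = (fst G G ≫ f) * (snd G G ≫ f) from map_mul (IsMonHom.monoidHom f _) _ _]
    simp [ψ, comp_mul]
  have he' : μ[G].left ≫ f.left = (f ▷ G).left ≫ (ψ.hom ≫ fst H G).left := by
    rw [← Over.comp_left, ← Over.comp_left, he]
  refine flat_stalkMap_of_comp ?_ (Flat.stalkMap _ _)
  rw [he']
  exact flat_stalkMap_comp h1 (Flat.stalkMap _ _)

/-- If a homomorphism is flat at a point then it is flat at every point of the same fibre. -/
theorem flat_stalkMap_of_same_fibre {x y : G.left} (hx : (f.left.stalkMap x).hom.Flat) (h : G.hom x = G.hom y) :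
    (f.left.stalkMap y).hom.Flat := by
  let j : Over.mk (G.left.fromSpecStalk x ≫ G.hom) ⟶ G := Over.homMk (G.left.fromSpecStalk x)
  have : Flat j.left := flat_fromSpecStalk G.left x
  have := flat_fromSpecStalk H.left (f.left x)
  have hj : Flat (j ≫ f).left := by
    show Flat (G.left.fromSpecStalk x ≫ f.left)
    rw [← Scheme.SpecMap_stalkMap_fromSpecStalk]
    have : Flat (Spec.map (f.left.stalkMap x)) := Flat.SpecMap_iff.mpr hx
    infer_instance
  obtain ⟨z', h1, h2⟩ := Scheme.Pullback.exists_preimage_pullback (f := G.hom) (g := G.hom) x y h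
  let σ := shearL (𝟙 G)
  let z := σ.inv.left z'
  have hz1 : (fst G G).left z = x := by
    rw [← Scheme.Hom.comp_apply, ← Over.comp_left, show σ.inv ≫ fst G G = fst G G by simp [σ, shearL]]
    exact h1
  have hz2 : μ[G].left z = y := by
    rw [← Scheme.Hom.comp_apply, ← Over.comp_left]
    have : σ.inv ≫ μ[G] = snd G G := by
      rw [Iso.inv_comp_eq, shearL_snd]; simp
    rw [this]
    exact h2
  have := flat_stalkMap_translate f j hj z ⟨IsLocalRing.closedPoint (G.left.presheaf.stalk x), (Scheme.fromSpecStalk_closedPoint (x := x)).trans hz1.symm⟩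
  rwa [hz2] at this

omit [GrpObj G] [GrpObj H] [IsMonHom f] [Flat G.hom] in
/-- Base change of a homomorphism to the fibre over a point. -/
theorem isPullback_fibreHom (f : G ⟶ H) (s : S) :
    IsPullback ((Over.pullback (S.fromSpecResidueField s)).map f).left (pullback.fst G.hom (S.fromSpecResidueField s))
      (H.hom.fiberι s) f.left := by
  refine (IsPullback.of_bot (h₁₁ := pullback.fst G.hom (S.fromSpecResidueField s))
    (v₁₁ := ((Over.pullback (S.fromSpecResidueField s)).map f).left) (v₁₂ := f.left)
    (h₂₁ := H.hom.fiberι s) ?_ ?_ (IsPullback.of_hasPullback H.hom (S.fromSpecResidueField s)).flip.flip).flip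
  · erw [pullback.lift_snd]; rw [Over.w f]; exact IsPullback.of_hasPullback G.hom (S.fromSpecResidueField s)
  · exact (pullback.lift_fst _ _ _).symm

omit [GrpObj G] [GrpObj H] [IsMonHom f] in
/-- Fibrewise criterion of flatness for morphisms over a base. -/
theorem flat_stalkMap_of_flat_fibre [LocallyOfFinitePresentation G.hom] [LocallyOfFiniteType H.hom] {x : G.left}
    (h : Flat ((Over.pullback (S.fromSpecResidueField (G.hom x))).map f).left) :
    (H.hom.stalkMap (f.left x)).hom.Flat ∧ (f.left.stalkMap x).hom.Flat := by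
  have : LocallyOfFinitePresentation (f.left ≫ H.hom) := by rw [Over.w f]; infer_instance
  have : Flat (f.left ≫ H.hom) := by rw [Over.w f]; infer_instance
  let s := G.hom x
  obtain ⟨x', hx'⟩ : x ∈ Set.range ((f.left ≫ H.hom).fiberι s) := by
    rw [Scheme.Hom.range_fiberι, Over.w f]; rfl
  let φ : (f.left ≫ H.hom).fiber s ⟶ H.hom.fiber s :=
    (pullback.congrHom (Over.w f) rfl).hom ≫ ((Over.pullback (S.fromSpecResidueField s)).map f).left
  have hφ : φ ≫ H.hom.fiberι s = (f.left ≫ H.hom).fiberι s ≫ f.left := by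
    refine (Category.assoc _ _ _).trans ((congrArg ((pullback.congrHom (Over.w f) rfl).hom ≫ ·)
      (isPullback_fibreHom f s).w).trans ((Category.assoc _ _ _).symm.trans ?_))
    exact congrArg (· ≫ f.left) ((pullback.lift_fst _ _ _).trans (Category.comp_id _))
  have hflat : Flat φ :=
    inferInstanceAs (Flat ((pullback.congrHom (Over.w f) rfl).hom ≫ ((Over.pullback (S.fromSpecResidueField s)).map f).left))
  have hfib := (Groth.FlatDescent.flat_fiberMap_iff f.left H.hom s φ hφ x').mp (Flat.stalkMap φ x')
  rw [hx'] at hfib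
  exact Groth.FlatDescent.flat_of_fibFlat f.left H.hom x (Flat.stalkMap _ x) hfib

omit [GrpObj G] [GrpObj H] [IsMonHom f] [Flat G.hom] in
/-- The fibre of a morphism flat along a fibre is flat. -/
theorem flat_fibre_of_flat_stalkMap {s : S} (h : ∀ x, G.hom x = s → (f.left.stalkMap x).hom.Flat) :
    Flat ((Over.pullback (S.fromSpecResidueField s)).map f).left := by
  refine Flat.of_stalkMap _ fun z => ?_
  let φ : (f.left ≫ H.hom).fiber s ⟶ H.hom.fiber s :=
    (pullback.congrHom (Over.w f) rfl).hom ≫ ((Over.pullback (S.fromSpecResidueField s)).map f).left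
  have hφ : φ ≫ H.hom.fiberι s = (f.left ≫ H.hom).fiberι s ≫ f.left := by
    refine (Category.assoc _ _ _).trans ((congrArg ((pullback.congrHom (Over.w f) rfl).hom ≫ ·)
      (isPullback_fibreHom f s).w).trans ((Category.assoc _ _ _).symm.trans ?_))
    exact congrArg (· ≫ f.left) ((pullback.lift_fst _ _ _).trans (Category.comp_id _))
  let c := pullback.congrHom (f₁ := f.left ≫ H.hom) (g₁ := S.fromSpecResidueField s) (Over.w f) rfl
  let z' := c.inv z
  have hz : c.hom z' = z := by
    rw [← Scheme.Hom.comp_apply, Iso.inv_hom_id]; rfl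
  have h1 : (φ.stalkMap z').hom.Flat := by
    refine (Groth.FlatDescent.flat_fiberMap_iff f.left H.hom s φ hφ z').mpr
      (Groth.FlatDescent.fibFlat_of_flat _ _ _ (h _ ?_))
    have : H.hom.fiberι s ≫ H.hom = _ := H.hom.fiber_fac s
    have hr : (f.left ≫ H.hom).fiberι s z' ∈ Set.range ((f.left ≫ H.hom).fiberι s) := ⟨_, rfl⟩
    rw [Scheme.Hom.range_fiberι] at hr
    rw [← Over.w f]
    exact hr
  have h2 := flat_stalkMap_of_comp (f := c.hom) (x := z') h1 (Flat.stalkMap _ _)
  rwa [hz] at h2

end Base

end Groth.Agent.GrpSchField
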