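import Mathlib
import Groth.Agent.GrpSchField.Subgroup

/-!
# Images of powers on a commutative group scheme over an algebraically closed field
-/

set_option autoImplicit false
universe u
open CategoryTheory CategoryTheory.Limits MonoidalCategory CartesianMonoidalCategory MonObj GrpObj
open AlgebraicGeometry Topology

namespace Groth.Agent.GrpSchField

/-- A constructible set containing a point contains a relative neighbourhood of it in its
closure. -/
theorem exists_open_of_mem_constructible {X : Type*} [TopologicalSpace X] {E : Set X}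
    (hE : IsConstructible E) (x : X) :
    (x ∈ E → ∃ O, IsOpen O ∧ x ∈ O ∧ O ∩ closure {x} ⊆ E) ∧
      (x ∉ E → ∃ O, IsOpen O ∧ x ∈ O ∧ O ∩ closure {x} ⊆ Eᶜ) := by
  induction hE using IsConstructible.empty_union_induction with
  | open_retrocompact U hU _ =>
    refine ⟨fun h => ⟨U, hU, h, Set.inter_subset_left⟩, fun h => ⟨Set.univ, isOpen_univ, trivial, ?_⟩⟩
    exact fun y hy hyU => h ((specializes_iff_mem_closure.mpr hy.2).mem_open hU hyU)
  | union s hs t ht hs' ht' =>
    refine ⟨?_, fun h => ?_⟩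
    · rintro (h | h)
      · obtain ⟨O, h1, h2, h3⟩ := hs'.1 h
        exact ⟨O, h1, h2, h3.trans Set.subset_union_left⟩
      · obtain ⟨O, h1, h2, h3⟩ := ht'.1 h
        exact ⟨O, h1, h2, h3.trans Set.subset_union_right⟩
    · obtain ⟨O, h1, h2, h3⟩ := hs'.2 (fun hh => h (Or.inl hh))
      obtain ⟨O', h1', h2', h3'⟩ := ht'.2 (fun hh => h (Or.inr hh))
      refine ⟨O ∩ O', h1.inter h1', ⟨h2, h2'⟩, fun y hy => ?_⟩
      rintro (hh | hh)
      · exact h3 ⟨hy.1.1, hy.2⟩ hh
      · exact h3' ⟨hy.1.2, hy.2⟩ hh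
  | compl s hs hs' =>
    refine ⟨fun h => hs'.2 h, fun h => ?_⟩
    rw [compl_compl]
    exact hs'.1 (not_not.mp h)

variable {k : Type u} [Field k] {H G : Over (Spec (CommRingCat.of k))} [GrpObj H] [GrpObj G]

/-- The point underlying a rational point. -/
noncomputable abbrev ptOf (a : 𝟙_ (Over (Spec (CommRingCat.of k))) ⟶ G) : G.left :=
  a.left (IsLocalRing.closedPoint k)

/-- Translation by a rational point. -/
noncomputable def transR (a : 𝟙_ (Over (Spec (CommRingCat.of k))) ⟶ G) : G ⟶ G :=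
  𝟙 G * (toUnit G ≫ a)

theorem comp_transR {W : Over (Spec (CommRingCat.of k))} (x : W ⟶ G)
    (a : 𝟙_ (Over (Spec (CommRingCat.of k))) ⟶ G) : x ≫ transR a = x * (toUnit W ≫ a) := by
  rw [transR, MonObj.comp_mul, Category.comp_id, ← Category.assoc, comp_toUnit]

theorem transR_comp (a b : 𝟙_ (Over (Spec (CommRingCat.of k))) ⟶ G) :
    transR a ≫ transR b = transR (a * b) := by
  rw [comp_transR, transR, transR, _root_.mul_assoc, MonObj.comp_mul]

theorem transR_one : transR (1 : 𝟙_ (Over (Spec (CommRingCat.of k))) ⟶ G) = 𝟙 G := by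
  rw [transR, MonObj.comp_one, _root_.mul_one]

theorem transR_ptOf (a b : 𝟙_ (Over (Spec (CommRingCat.of k))) ⟶ G) :
    (transR a).left (ptOf b) = ptOf (b * a) := by
  refine (comp_left_apply b (transR a) _).symm.trans ?_
  rw [comp_transR, toUnit_unit, Category.id_comp]

variable [IsCommMonObj G] [IsAlgClosed k] [LocallyOfFiniteType G.hom] [LocallyOfFiniteType H.hom]
  [CompactSpace H.left] [IrreducibleSpace H.left]

/-- The rational points in the closure of the image of a homomorphism are images of rational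
points. -/
theorem exists_lift_of_mem_closure_range (ψ : H ⟶ G) [IsMonHom ψ]
    (c : 𝟙_ (Over (Spec (CommRingCat.of k))) ⟶ G) (hc : ptOf c ∈ closure (Set.range ψ.left)) :
    ∃ b, b ≫ ψ = c := by
  have : IsSeparated G.hom := isSeparated_hom
  have : QuasiSeparatedSpace G.left := quasiSeparatedSpace_of_quasiSeparated G.hom
  have : JacobsonSpace G.left := LocallyOfFiniteType.jacobsonSpace G.hom
  have : JacobsonSpace H.left := LocallyOfFiniteType.jacobsonSpace H.hom
  have : IsLocallyNoetherian G.left := LocallyOfFiniteType.isLocallyNoetherian G.hom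
  have : IsLocallyNoetherian H.left := LocallyOfFiniteType.isLocallyNoetherian H.hom
  have : LocallyOfFiniteType (ψ.left ≫ G.hom) := by rw [Over.w ψ]; infer_instance
  have : LocallyOfFiniteType ψ.left := locallyOfFiniteType_of_comp ψ.left G.hom
  have : LocallyOfFinitePresentation ψ.left := by
    exact LocallyOfFinitePresentation.iff_locallyOfFiniteType.mpr inferInstance
  have : QuasiCompact (ψ.left ≫ G.hom) := by
    rw [Over.w ψ]
    constructor
    intro U _ _
    rcases U.eq_empty_or_nonempty with h | h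
    · simp [h]
    · rw [Subsingleton.eq_univ_of_nonempty h, Set.preimage_univ]
      exact isCompact_univ
  have : QuasiCompact ψ.left := QuasiCompact.of_comp ψ.left G.hom
  set S : Set G.left := Set.range ψ.left with hS
  obtain ⟨gη₀, hgη₀⟩ := QuasiSober.sober (IrreducibleSpace.isIrreducible_univ H.left) isClosed_univ
  set gη := ψ.left gη₀
  have hcl : closure S = closure {gη} := by
    refine subset_antisymm (closure_minimal ?_ isClosed_closure)
      (closure_mono (Set.singleton_subset_iff.mpr ⟨gη₀, rfl⟩))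
    rintro _ ⟨y, rfl⟩
    exact ((hgη₀.specializes (Set.mem_univ y)).map ψ.left.continuous).mem_closure
  have hloc : IsLocallyConstructible (Set.range ψ.left) := by
    rw [← Set.image_univ]
    exact ψ.left.isLocallyConstructible_image (IsConstructible.univ.isLocallyConstructible)
  obtain ⟨_, ⟨U, hU, rfl⟩, hgηU, -⟩ :=
    G.left.isBasis_affineOpens.exists_subset_of_mem_open (Set.mem_univ gη) isOpen_univ
  obtain ⟨O, hO, hgηO, hOS⟩ : ∃ O : Set G.left, IsOpen O ∧ gη ∈ O ∧ O ∩ closure {gη} ⊆ S := by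
    have : CompactSpace (U : Scheme.{u}) := isCompact_iff_compactSpace.mp hU.isCompact
    have : QuasiSeparatedSpace (U : Scheme.{u}) :=
      QuasiSeparatedSpace.of_isOpenEmbedding (Scheme.Opens.ι U).isOpenEmbedding
    have hE : IsConstructible ((Scheme.Opens.ι U) ⁻¹' S) :=
      (hloc.preimage_of_isOpenEmbedding (Scheme.Opens.ι U).isOpenEmbedding).isConstructible
    obtain ⟨O, hO, hgηO, hsub⟩ := (exists_open_of_mem_constructible hE ⟨gη, hgηU⟩).1 ⟨gη₀, rfl⟩
    refine ⟨(Scheme.Opens.ι U) '' O, (Scheme.Opens.ι U).isOpenEmbedding.isOpenMap _ hO, ⟨_, hgηO, rfl⟩, ?_⟩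
    rintro _ ⟨⟨y, hy, rfl⟩, hcly⟩
    refine hsub ⟨hy, ?_⟩
    rw [(Scheme.Opens.ι U).isOpenEmbedding.isInducing.closure_eq_preimage_closure_image]
    refine closure_mono ?_ hcly
    exact Set.singleton_subset_iff.mpr ⟨⟨gη, hgηU⟩, rfl, rfl⟩
  have hlift : ∀ x : G.left, IsClosed ({x} : Set G.left) → x ∈ S →
      ∃ b, ptOf (b ≫ ψ) = x := by
    intro x hx hxS
    obtain ⟨y, hy, hyc⟩ := nonempty_inter_closedPoints (Z := ψ.left ⁻¹' {x})
      (by obtain ⟨y, hy⟩ := hxS; exact ⟨y, hy⟩) (hx.preimage ψ.left.continuous).isLocallyClosed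
    refine ⟨Over.homMk (pointOfClosedPoint H.hom y hyc) (pointOfClosedPoint_comp _ _ _), ?_⟩
    exact (comp_left_apply _ ψ _).trans
      ((congrArg ψ.left (pointOfClosedPoint_apply H.hom y hyc _)).trans hy)
  have hmap : ∀ f : G ⟶ G, (∀ b, f.left (ptOf (b ≫ ψ)) ∈ closure S) →
      f.left '' closure S ⊆ closure S := by
    intro f hf
    have hdense : closure S ⊆ closure (O ∩ closure {gη} ∩ closedPoints G.left) := by
      rw [JacobsonSpace.closure_inter_closedPoints_eq_closure
        ((hO.isLocallyClosed).inter isClosed_closure.isLocallyClosed), hcl]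
      exact closure_mono (Set.singleton_subset_iff.mpr ⟨hgηO, subset_closure rfl⟩)
    refine (Set.image_mono hdense).trans ((image_closure_subset_closure_image f.left.continuous).trans
      (closure_minimal ?_ isClosed_closure))
    rintro _ ⟨x, ⟨hxO, hxc⟩, rfl⟩
    obtain ⟨b, rfl⟩ := hlift x hxc (hOS hxO)
    exact hf b
  have hR : ∀ b, (transR (b ≫ ψ)).left '' closure S ⊆ closure S := fun b =>
    hmap _ fun b' => subset_closure (by
      rw [transR_ptOf, ← MonObj.mul_comp]
      exact ⟨_, rfl⟩)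
  have hRc : ∀ d, ptOf d ∈ closure S → (transR d).left '' closure S ⊆ closure S := fun d hd =>
    hmap _ fun b => by
      rw [transR_ptOf, _root_.mul_comm, ← transR_ptOf]
      exact hR b ⟨_, hd, rfl⟩
  have hcinv : ptOf c⁻¹ ∈ closure S := by
    have h1 : (𝟙 G : G ⟶ G)⁻¹.left '' closure S ⊆ closure S := hmap _ fun b => by
      refine Set.mem_of_eq_of_mem (comp_left_apply (b ≫ ψ) (𝟙 G)⁻¹ _).symm ?_
      rw [GrpObj.comp_inv, Category.comp_id, ← GrpObj.inv_comp]
      exact subset_closure ⟨_, (comp_left_apply b⁻¹ ψ _).symm⟩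
    refine h1 ⟨_, hc, ?_⟩
    refine (comp_left_apply c (𝟙 G)⁻¹ _).symm.trans ?_
    rw [GrpObj.comp_inv, Category.comp_id]
  have hfix : (transR c).left gη = gη := by
    have hmem : gη ∈ closure S := hcl ▸ subset_closure rfl
    have h1 : gη ⤳ (transR c).left gη :=
      specializes_iff_mem_closure.mpr (hcl ▸ hRc c hc ⟨gη, hmem, rfl⟩)
    refine (Specializes.antisymm ?_ h1).eq
    have h2 : gη ⤳ (transR c⁻¹).left gη :=
      specializes_iff_mem_closure.mpr (hcl ▸ hRc _ hcinv ⟨gη, hmem, rfl⟩)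
    have h3 := h2.map (transR c).left.continuous
    have h4 : (transR c).left ((transR c⁻¹).left gη) = gη := by
      rw [← comp_left_apply, transR_comp, inv_mul_cancel, transR_one]
      rfl
    rwa [h4] at h3
  obtain ⟨x, hx, hxc⟩ := nonempty_inter_closedPoints
    (Z := (O ∩ (transR c).left ⁻¹' O) ∩ closure {gη})
    ⟨gη, ⟨hgηO, by rw [Set.mem_preimage, hfix]; exact hgηO⟩, subset_closure rfl⟩
    ((hO.inter (hO.preimage (transR c).left.continuous)).isLocallyClosed.inter
      isClosed_closure.isLocallyClosed)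
  obtain ⟨b, rfl⟩ := hlift x hxc (hOS ⟨hx.1.1, hx.2⟩)
  have hy : (transR c).left (ptOf (b ≫ ψ)) ∈ S :=
    hOS ⟨hx.1.2, hcl ▸ hRc c hc ⟨_, hcl.symm ▸ hx.2, rfl⟩⟩
  rw [transR_ptOf] at hy
  have hcl' : IsClosed ({ptOf (b ≫ ψ * c)} : Set G.left) :=
    ((pointEquivClosedPoint G.hom) ⟨(b ≫ ψ * c).left, Over.w _⟩).2
  obtain ⟨b', hb'⟩ := hlift _ hcl' hy
  have heq : b' ≫ ψ = b ≫ ψ * c := by
    apply Over.OverMorphism.ext
    exact ext_of_apply_closedPoint_eq G.hom (Over.w _) (Over.w _) hb'
  refine ⟨b⁻¹ * b', ?_⟩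
  rw [MonObj.mul_comp, GrpObj.inv_comp, heq, inv_mul_cancel_left]

end Groth.Agent.GrpSchField
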