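import Mathlib

/-!
# Smoothness criteria for group schemes over a field
-/

set_option autoImplicit false
universe u

open CategoryTheory MonoidalCategory CartesianMonoidalCategory MonObj GrpObj AlgebraicGeometry

namespace Groth.Agent.GrpSchField

variable {K : Type u} [Field K] (G : Over (Spec (CommRingCat.of K))) [GrpObj G] [LocallyOfFiniteType G.hom]

/-- Over an algebraically closed field, a group scheme with a smooth point is smooth. -/
theorem smooth_of_smoothLocus_nonempty_algClosed [IsAlgClosed K]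
    (hne : (G.hom.smoothLocus : Set G.left).Nonempty) : Smooth G.hom := by
  have : JacobsonSpace G.left := LocallyOfFiniteType.jacobsonSpace G.hom
  rw [← Scheme.Hom.smoothLocus_eq_top_iff, ← TopologicalSpace.Opens.coe_eq_univ,
    ← not_ne_iff, ← Set.nonempty_compl]
  intro H
  obtain ⟨x, hx, hxc⟩ :=
    nonempty_inter_closedPoints H G.hom.smoothLocus.2.isClosed_compl.isLocallyClosed
  obtain ⟨y, hy : y ∈ G.hom.smoothLocus, hyc⟩ :=
    nonempty_inter_closedPoints hne G.hom.smoothLocus.2.isLocallyClosed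
  let x' : 𝟙_ _ ⟶ G := Over.homMk _ ((pointEquivClosedPoint G.hom).symm ⟨x, hxc⟩).2
  let y' : 𝟙_ _ ⟶ G := Over.homMk _ ((pointEquivClosedPoint G.hom).symm ⟨y, hyc⟩).2
  let α := (GrpObj.mulRight (A := G) x').symm ≪≫ (GrpObj.mulRight (A := G) y')
  have hα : x' ≫ α.hom = y' := by
    dsimp only [Iso.trans_hom, Iso.symm_hom, α]
    rw [← Category.assoc, ← Iso.eq_comp_inv]
    simp [comp_lift_assoc]
  have hα' : α.hom.left x = y := by
    simpa [x', y', pointEquivClosedPoint] using congr(($hα).left (IsLocalRing.closedPoint K))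
  rw! [← hα', ← α.hom.left.mem_preimage, Scheme.Hom.preimage_smoothLocus_eq,
    show α.hom.left ≫ G.hom = G.hom from α.hom.w] at hy
  exact hx hy

/-- A scheme is reduced near a point where its local ring is reduced. -/
theorem exists_isReduced_nhd {X : Scheme.{u}} [IsLocallyNoetherian X] (x : X)
    (h : _root_.IsReduced (X.presheaf.stalk x)) : ∃ V : X.Opens, x ∈ V ∧ IsReduced (V : Scheme.{u}) := by
  obtain ⟨_, ⟨U, hU, rfl⟩, hxU, -⟩ :=
    X.isBasis_affineOpens.exists_subset_of_mem_open (Set.mem_univ x) isOpen_univ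
  have : IsNoetherianRing Γ(X, U) := IsLocallyNoetherian.component_noetherian ⟨U, hU⟩
  let := X.presheaf.algebra_section_stalk (U := U) ⟨x, hxU⟩
  have := hU.isLocalization_stalk ⟨x, hxU⟩
  let P := (hU.primeIdealOf ⟨x, hxU⟩).asIdeal
  obtain ⟨F, hF⟩ := (inferInstance : IsNoetherian Γ(X, U) Γ(X, U)).noetherian (nilradical Γ(X, U))
  have hkill : ∀ y ∈ F, ∃ t ∈ P.primeCompl, t * y = 0 := fun y hy => by
    have hn : IsNilpotent y := mem_nilradical.mp (hF ▸ Submodule.subset_span hy)
    have h0 : algebraMap Γ(X, U) (X.presheaf.stalk x) y = 0 := IsReduced.eq_zero _ (hn.map _)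
    obtain ⟨⟨t, ht⟩, e⟩ := (IsLocalization.map_eq_zero_iff P.primeCompl (X.presheaf.stalk x) y).mp h0
    exact ⟨t, ht, e⟩
  choose t ht ht' using fun y : F => hkill y.1 y.2
  let s := ∏ y : F, t y
  have hs : s ∈ P.primeCompl := prod_mem fun y _ => ht y
  have hann : ∀ y ∈ nilradical Γ(X, U), s * y = 0 := fun y hy => by
    rw [← hF] at hy
    induction hy using Submodule.span_induction with
    | mem z hz =>
      obtain ⟨c, hc⟩ : t ⟨z, hz⟩ ∣ s := Finset.dvd_prod_of_mem t (Finset.mem_univ _)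
      rw [hc, mul_comm (t ⟨z, hz⟩) c, _root_.mul_assoc, ht' ⟨z, hz⟩, MulZeroClass.mul_zero]
    | zero => rw [MulZeroClass.mul_zero]
    | add p q _ _ hp hq => rw [mul_add, hp, hq, add_zero]
    | smul c p _ hp => rw [smul_eq_mul, mul_left_comm, hp, MulZeroClass.mul_zero]
  have : _root_.IsReduced Γ(X, X.basicOpen s) := by
    have := hU.isLocalization_basicOpen s
    refine ⟨fun z hz => ?_⟩
    obtain ⟨y, ⟨_, n, rfl⟩, rfl⟩ := IsLocalization.exists_mk'_eq (Submonoid.powers s) z
    obtain ⟨N, hN⟩ := hz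
    rw [← IsLocalization.mk'_pow, IsLocalization.mk'_eq_zero_iff] at hN
    obtain ⟨⟨_, M, rfl⟩, hM⟩ := hN
    have hnilp : s ^ M * y ∈ nilradical Γ(X, U) := by
      refine mem_nilradical.mpr ⟨N + 1, ?_⟩
      calc (s ^ M * y) ^ (N + 1) = (s ^ M) ^ N * y * (s ^ M * y ^ N) := by ring
        _ = 0 := by rw [show s ^ M * y ^ N = 0 from hM, MulZeroClass.mul_zero]
    rw [IsLocalization.mk'_eq_zero_iff]
    exact ⟨⟨s ^ (M + 1), M + 1, rfl⟩,
      show s ^ (M + 1) * y = 0 by rw [pow_succ', _root_.mul_assoc]; exact hann _ hnilp⟩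
  refine ⟨X.basicOpen s, ?_, isReduced_of_isOpenImmersion (hU.basicOpen s).isoSpec.hom⟩
  have key : hU.primeIdealOf ⟨x, hxU⟩ ∈ hU.fromSpec ⁻¹ᵁ X.basicOpen s := by
    rw [hU.fromSpec_preimage_basicOpen]
    exact hs
  have key' : hU.fromSpec (hU.primeIdealOf ⟨x, hxU⟩) ∈ X.basicOpen s := key
  rwa [hU.fromSpec_primeIdealOf ⟨x, hxU⟩] at key'

omit [GrpObj G] in
/-- Over a perfect field, a nonempty reduced open has a smooth point. -/
theorem smoothLocus_nonempty_of_isReduced_open [PerfectField K] (V : G.left.Opens) [IsReduced (V : Scheme.{u})]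
    (hV : (V : Set G.left).Nonempty) : (G.hom.smoothLocus : Set G.left).Nonempty := by
  have : Nonempty (V : Scheme.{u}) := ⟨⟨_, hV.some_mem⟩⟩
  obtain ⟨y, hy⟩ := (V.ι ≫ G.hom).dense_smoothLocus_of_perfectField.nonempty
  refine ⟨V.ι y, ?_⟩
  rwa [← Scheme.Hom.preimage_smoothLocus_eq] at hy

/-- A group scheme is smooth if its base change to the algebraic closure has a smooth point. -/
theorem smooth_of_baseChange (hne : ((Limits.pullback.snd G.hom
      (Spec.map (CommRingCat.ofHom (algebraMap K (AlgebraicClosure K))))).smoothLocus :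
      Set ↥(Limits.pullback G.hom (Spec.map (CommRingCat.ofHom (algebraMap K (AlgebraicClosure K)))))).Nonempty) :
    Smooth G.hom := by
  let Ω : Type u := AlgebraicClosure K
  let g : Spec (.of Ω) ⟶ Spec (.of K) := Spec.map (CommRingCat.ofHom <| algebraMap K Ω)
  have : MorphismProperty.DescendsAlong @Smooth (@Surjective ⊓ @Flat ⊓ @QuasiCompact : MorphismProperty Scheme.{u}) :=
    HasRingHomProperty.descendsAlong_flat RingHom.Smooth.codescendsAlong_faithfullyFlat
  apply MorphismProperty.of_pullback_snd_of_descendsAlong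
    (P := @Smooth) (Q := @Surjective ⊓ @Flat ⊓ @QuasiCompact) (g := g)
  · exact ⟨⟨inferInstance, inferInstance⟩, inferInstance⟩
  · let G' := (Over.pullback g).obj G
    let : GrpObj G' := Functor.grpObjObj
    have : LocallyOfFiniteType G'.hom := by dsimp [G']; infer_instance
    exact smooth_of_smoothLocus_nonempty_algClosed G' hne

/-- A group scheme with a smooth open subscheme is smooth. -/
theorem smooth_of_smooth_open (U : G.left.Opens) (hU : (U : Set G.left).Nonempty) [Smooth (U.ι ≫ G.hom)] :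
    Smooth G.hom := by
  let g := Spec.map (CommRingCat.ofHom (algebraMap K (AlgebraicClosure K)))
  refine smooth_of_baseChange G ?_
  let p := Limits.pullback.fst G.hom g
  obtain ⟨x, hx⟩ := hU
  have : Surjective g := inferInstance
  obtain ⟨x', hx'⟩ := p.surjective x
  refine ⟨x', ?_⟩
  let V := p ⁻¹ᵁ U
  have hsm : Smooth (V.ι ≫ Limits.pullback.snd G.hom g) :=
    MorphismProperty.of_isPullback (P := @Smooth)
      ((IsPullback.paste_horiz (isPullback_morphismRestrict p U).flip (IsPullback.of_hasPullback G.hom g).flip).flip)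
      ‹Smooth (U.ι ≫ G.hom)›
  have hmem : (⟨x', show p x' ∈ U by rw [hx']; exact hx⟩ : V) ∈ (V.ι ≫ Limits.pullback.snd G.hom g).smoothLocus := by
    rw [Scheme.Hom.smoothLocus_eq_top]; trivial
  rwa [← Scheme.Hom.preimage_smoothLocus_eq] at hmem

end Groth.Agent.GrpSchField
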