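import Mathlib
import Groth.Prelude.Def_AlgGrp
import Groth.Agent.GrpSchField.Translate
import Groth.Agent.GrpSchField.ClosedImage

/-!
# Orbit maps: flatness and locally closed images
-/

set_option autoImplicit false
universe u

open Topology CategoryTheory CategoryTheory.Limits MonoidalCategory CartesianMonoidalCategory MonObj GrpObj AlgebraicGeometry

noncomputable section

namespace Groth.Agent.GrpSchField

variable {S : Scheme.{u}} {G X : Over S} [GrpObj G] (a : AlgGrp.Action G X)

theorem lift_act_one {T : Over S} (x : T ⟶ X) : lift (1 : T ⟶ G) x ≫ a.act = x := by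
  have : lift (1 : T ⟶ G) x = lift (toUnit T) x ≫ (η[G] ▷ X) := by
    apply CartesianMonoidalCategory.hom_ext <;> simp [Hom.one_def]
  rw [this, Category.assoc, a.one_act]
  simp

theorem lift_act_mul {T : Over S} (g h : T ⟶ G) (x : T ⟶ X) :
    lift (g * h) x ≫ a.act = lift g (lift h x ≫ a.act) ≫ a.act := by
  have : lift (g * h) x = lift (lift g h) x ≫ (μ[G] ▷ X) := by
    apply CartesianMonoidalCategory.hom_ext <;> simp [Hom.mul_def]
  rw [this, Category.assoc, a.mul_act, ← Category.assoc, ← Category.assoc, lift_lift_associator_hom, lift_whiskerLeft]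

/-- `(g, x) ↦ (g, g · x)`. -/
def actShear : G ⊗ X ≅ G ⊗ X where
  hom := lift (fst G X) a.act
  inv := lift (fst G X) (lift (fst G X)⁻¹ (snd G X) ≫ a.act)
  hom_inv_id := by
    apply CartesianMonoidalCategory.hom_ext
    · simp
    · have h : lift (fst G X) (snd G X) = 𝟙 (G ⊗ X) := lift_fst_snd
      have e : lift (fst G X) a.act ≫ lift (fst G X)⁻¹ (snd G X) = lift (fst G X)⁻¹ a.act := by
        rw [comp_lift, comp_inv, lift_fst, lift_snd]
      rw [Category.assoc, lift_snd, ← Category.assoc, e]
      calc lift (fst G X)⁻¹ a.act ≫ a.act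
          = lift (fst G X)⁻¹ (lift (fst G X) (snd G X) ≫ a.act) ≫ a.act := by rw [h, Category.id_comp]
        _ = 𝟙 (G ⊗ X) ≫ snd G X := by rw [← lift_act_mul, inv_mul_cancel, lift_act_one, Category.id_comp]
  inv_hom_id := by
    apply CartesianMonoidalCategory.hom_ext
    · simp
    · rw [Category.assoc, lift_snd, ← lift_act_mul, mul_inv_cancel, lift_act_one, Category.id_comp]

theorem actShear_inv_act : (actShear a).inv ≫ a.act = snd G X := by
  rw [Iso.inv_comp_eq]
  simp [actShear]

/-- The action is flat when the group is. -/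
theorem flat_act [Flat G.hom] : Flat a.act.left := by
  have h : a.act = (actShear a).hom ≫ snd G X := by simp [actShear]
  rw [h, Over.comp_left]
  have := isIso_left (actShear a)
  have : Flat (snd G X).left := inferInstanceAs (Flat (pullback.snd G.hom X.hom))
  infer_instance

variable (o : 𝟙_ (Over S) ⟶ X)

theorem mul_comp_orbitMap : μ[G] ≫ a.orbitMap o = G ◁ a.orbitMap o ≫ a.act := by
  have h1 : μ[G] = fst G G * snd G G := by simp [Hom.mul_def]
  have h2 : G ◁ a.orbitMap o = lift (fst G G) (snd G G ≫ a.orbitMap o) := by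
    apply CartesianMonoidalCategory.hom_ext <;> simp
  have h3 : snd G G ≫ a.orbitMap o = lift (snd G G) (toUnit _ ≫ o) ≫ a.act := by
    rw [AlgGrp.Action.orbitMap, ← Category.assoc, comp_lift, Category.comp_id, ← Category.assoc,
      toUnit_unique (snd G G ≫ toUnit G) (toUnit _)]
  rw [h2, h3, AlgGrp.Action.orbitMap, ← Category.assoc, comp_lift, Category.comp_id, ← Category.assoc,
    toUnit_unique (μ[G] ≫ toUnit G) (toUnit _), h1, lift_act_mul]

/-- An orbit map that is flat at a point is flat on its fibre over the base. -/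
theorem flat_stalkMap_orbitMap [Flat G.hom] {x y : G.left} (hx : ((a.orbitMap o).left.stalkMap x).hom.Flat)
    (h : G.hom y = G.hom x) : ((a.orbitMap o).left.stalkMap y).hom.Flat := by
  let φ := a.orbitMap o
  let j : Over.mk (G.left.fromSpecStalk x ≫ G.hom) ⟶ G := Over.homMk (G.left.fromSpecStalk x)
  have : Flat j.left := flat_fromSpecStalk G.left x
  have := flat_fromSpecStalk X.left (φ.left x)
  have hj : Flat (j ≫ φ).left := by
    show Flat (G.left.fromSpecStalk x ≫ φ.left)
    rw [← Scheme.SpecMap_stalkMap_fromSpecStalk]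
    have : Flat (Spec.map (φ.left.stalkMap x)) := Flat.SpecMap_iff.mpr hx
    infer_instance
  -- the point `z = (y x⁻¹, x)`
  obtain ⟨z₀, hz₁, hz₂⟩ := Scheme.Pullback.exists_preimage_pullback (f := G.hom) (g := G.hom) y x h
  let z := (shearR (G := G)).inv.left z₀
  have hz : (snd G G).left z ∈ Set.range j.left := by
    refine ⟨IsLocalRing.closedPoint (G.left.presheaf.stalk x), Scheme.fromSpecStalk_closedPoint.trans ?_⟩
    rw [← Scheme.Hom.comp_apply, ← Over.comp_left, show (shearR (G := G)).inv ≫ snd G G = snd G G by simp [shearR]]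
    exact hz₂.symm
  have hμ : μ[G].left z = y := by
    rw [← Scheme.Hom.comp_apply, ← Over.comp_left]
    have : (shearR (G := G)).inv ≫ μ[G] = fst G G := by
      rw [Iso.inv_comp_eq]; simp [shearR, Hom.mul_def]
    rw [this]
    exact hz₁
  have hjf : Flat ((G ◁ j).left ≫ (G ◁ φ).left) := by
    rw [← Over.comp_left, ← MonoidalCategory.whiskerLeft_comp, ← id_tensorHom, Over.tensorHom_left]
    exact MorphismProperty.pullbackMap (P := @Flat) (MorphismProperty.id_mem _ _) hj (Over.w (𝟙 G)).symm
      (Over.w (j ≫ φ)).symm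
  have hjo : Flat (G ◁ j).left := by
    rw [← id_tensorHom, Over.tensorHom_left]
    exact MorphismProperty.pullbackMap (P := @Flat) (MorphismProperty.id_mem _ _) inferInstance
      (Over.w (𝟙 G)).symm (Over.w j).symm
  obtain ⟨z', hz'⟩ : z ∈ Set.range (G ◁ j).left := by
    rw [← id_tensorHom, Over.tensorHom_left]
    refine (Scheme.Pullback.range_map _ _ _ _ _ _ _ _ _).ge ?_
    exact ⟨⟨_, rfl⟩, hz⟩
  have h1 : ((G ◁ φ).left.stalkMap z).hom.Flat := by
    rw [← hz']
    exact flat_stalkMap_of_comp (Flat.stalkMap _ z') (Flat.stalkMap _ z')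
  have hact := flat_act a
  have hmu : Flat μ[G].left := by
    have h : μ[G] = shearR.hom ≫ fst G G := by simp [shearR, Hom.mul_def]
    rw [h, Over.comp_left]
    have := isIso_left (shearR (G := G))
    have : Flat (fst G G).left := inferInstanceAs (Flat (pullback.fst G.hom G.hom))
    infer_instance
  have he : μ[G].left ≫ φ.left = (G ◁ φ).left ≫ a.act.left := by
    rw [← Over.comp_left, ← Over.comp_left, mul_comp_orbitMap]
  rw [← hμ]
  refine flat_stalkMap_of_comp ?_ (Flat.stalkMap _ _)
  rw [he]
  exact flat_stalkMap_comp h1 (Flat.stalkMap _ _)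

section Field

variable {k : Type u} [Field k] {G X : Over (Spec (CommRingCat.of k))} [GrpObj G] (a : AlgGrp.Action G X)
  (o : 𝟙_ (Over (Spec (CommRingCat.of k))) ⟶ X)

/-- Orbits are locally closed. -/
theorem isLocallyClosed_range_orbitMap [LocallyOfFiniteType G.hom] [QuasiCompact G.hom]
    [LocallyOfFiniteType X.hom] : IsLocallyClosed (Set.range (a.orbitMap o).left) := by
  let φ := a.orbitMap o
  let R : Set X.left := Set.range φ.left
  have : IsLocallyNoetherian X.left := LocallyOfFiniteType.isLocallyNoetherian X.hom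
  have : IsLocallyNoetherian G.left := LocallyOfFiniteType.isLocallyNoetherian G.hom
  have : CompactSpace G.left := QuasiCompact.compactSpace_of_compactSpace G.hom
  have : IsNoetherian G.left := {}
  have : LocallyOfFiniteType (φ.left ≫ X.hom) := by rw [Over.w φ]; infer_instance
  have : LocallyOfFiniteType φ.left := locallyOfFiniteType_of_comp φ.left X.hom
  have : QuasiCompact (φ.left ≫ X.hom) := by rw [Over.w φ]; infer_instance
  have : QuasiCompact φ.left := QuasiCompact.of_comp φ.left X.hom
  have : LocallyOfFinitePresentation (φ.left ≫ X.hom) := by rw [Over.w φ]; infer_instance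
  have : LocallyOfFinitePresentation φ.left :=
    locallyOfFinitePresentation_of_comp φ.left X.hom inferInstance inferInstance
  -- a point of `R` maximal among the images of the generic points
  let gens : Set G.left := {x | ∀ x', x' ⤳ x → x ⤳ x'}
  have hfin : (irreducibleComponents G.left).Finite := TopologicalSpace.NoetherianSpace.finite_irreducibleComponents
  have hcl : R ⊆ ⋃ C ∈ irreducibleComponents G.left, closure (φ.left '' C) := by
    rintro _ ⟨x, rfl⟩
    exact Set.mem_biUnion (irreducibleComponent_mem_irreducibleComponents x)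
      (subset_closure ⟨x, mem_irreducibleComponent, rfl⟩)
  have hgen : ∀ C ∈ irreducibleComponents G.left, ∃ ξ, closure (φ.left '' C) = closure {φ.left ξ} := fun C hC => by
    obtain ⟨ξ, hξ⟩ := QuasiSober.sober hC.1 (isClosed_of_mem_irreducibleComponents C hC)
    refine ⟨ξ, ?_⟩
    rw [← hξ.def, closure_image_closure φ.left.continuous, Set.image_singleton]
  choose ξ hξ using hgen
  let T : Set X.left := {p | ∃ C hC, ξ C hC = ξ C hC ∧ p = φ.left (ξ C hC)}
  have hTfin : T.Finite := by
    have : Finite (irreducibleComponents G.left) := hfin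
    refine (Set.finite_range fun C : irreducibleComponents G.left => φ.left (ξ C.1 C.2)).subset ?_
    rintro p ⟨C, hC, -, rfl⟩
    exact ⟨⟨C, hC⟩, rfl⟩
  have hTcl : closure R ⊆ ⋃ p ∈ T, closure {p} := by
    refine closure_minimal (hcl.trans ?_) (hTfin.isClosed_biUnion fun _ _ => isClosed_closure)
    exact Set.iUnion₂_subset fun C hC => (hξ C hC).le.trans
      (Set.subset_biUnion_of_mem (u := fun p => closure ({p} : Set X.left)) ⟨C, hC, rfl, rfl⟩)
  obtain ⟨x₀, -⟩ : ∃ x : G.left, True := ⟨η[G].left (IsLocalRing.closedPoint k), trivial⟩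
  have hTne : T.Nonempty :=
    ⟨_, irreducibleComponent x₀, irreducibleComponent_mem_irreducibleComponents x₀, rfl, rfl⟩
  obtain ⟨η₀, hη₀, hmax⟩ := hTfin.exists_maximalFor (fun p : X.left => closure ({p} : Set X.left)) T hTne
  have hη₀R : η₀ ∈ R := by obtain ⟨C, hC, -, rfl⟩ := hη₀; exact ⟨_, rfl⟩
  -- an open set meeting the closure of `R` inside `R`
  obtain ⟨D, hDo, hηD, hDR⟩ : ∃ D : Set X.left, IsOpen D ∧ η₀ ∈ D ∧ D ∩ closure R ⊆ R := by
    have hlc : IsLocallyConstructible R := by
      have := φ.left.isLocallyConstructible_image (s := Set.univ) (IsConstructible.univ.isLocallyConstructible)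
      rwa [Set.image_univ] at this
    obtain ⟨U, hU, hUo, hUc⟩ := hlc η₀
    obtain ⟨O, hO, hηO, hOs⟩ := (exists_open_of_mem_constructible hUc ⟨η₀, mem_of_mem_nhds hU⟩).1 hη₀R
    refine ⟨(Subtype.val '' O) ∩ (⋃ p ∈ {p ∈ T | η₀ ∉ closure ({p} : Set X.left)}, closure {p})ᶜ,
      (hUo.isOpenMap_subtype_val _ hO).inter ((hTfin.subset fun p hp => hp.1).isClosed_biUnion
        fun _ _ => isClosed_closure).isOpen_compl, ⟨⟨_, hηO, rfl⟩, ?_⟩, ?_⟩
    · simp only [Set.mem_compl_iff, Set.mem_iUnion, not_exists]
      exact fun p hp h => hp.2 h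
    · rintro q ⟨⟨⟨u, huO, rfl⟩, hq⟩, hqR⟩
      obtain ⟨p, hp, hqp⟩ := Set.mem_iUnion₂.mp (hTcl hqR)
      have hηp : η₀ ∈ closure ({p} : Set X.left) := by
        by_contra h
        exact hq (Set.mem_iUnion₂.mpr ⟨p, ⟨hp, h⟩, hqp⟩)
      have hle : closure ({p} : Set X.left) ⊆ closure {η₀} :=
        hmax hp (closure_minimal (Set.singleton_subset_iff.mpr hηp) isClosed_closure)
      refine hOs ⟨huO, ?_⟩
      rw [Topology.IsEmbedding.subtypeVal.closure_eq_preimage_closure_image, Set.image_singleton]
      exact hle hqp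
  have hR : ∀ v : (G ⊗ X).left, (snd G X).left v ∈ R → a.act.left v ∈ R := fun v hv => by
    obtain ⟨z, rfl⟩ : v ∈ Set.range (G ◁ φ).left := by
      rw [← id_tensorHom, range_tensorHom]
      exact ⟨⟨_, rfl⟩, hv⟩
    refine ⟨μ[G].left z, ?_⟩
    rw [← comp_left_apply, ← comp_left_apply, mul_comp_orbitMap]
  have hY : ∀ v : (G ⊗ X).left, (snd G X).left v ∈ closure R → a.act.left v ∈ closure R := fun v hv => by
    have hv' : v ∈ (snd G X).left ⁻¹' closure R := hv
    rw [(snd G X).left.isOpenMap.preimage_closure_eq_closure_preimage (snd G X).left.continuous] at hv'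
    have hsub : a.act.left '' ((snd G X).left ⁻¹' R) ⊆ R := by rintro _ ⟨u, hu, rfl⟩; exact hR u hu
    exact closure_mono hsub
      (image_closure_subset_closure_image a.act.left.continuous ⟨v, hv', rfl⟩)
  let σ := actShear a
  have key : ∀ g : G.left, ∃ V : Set X.left, IsOpen V ∧ φ.left g ∈ V ∧ V ∩ closure R ⊆ R := fun g => by
    obtain ⟨x, hx⟩ := hη₀R
    obtain ⟨z₀, hz₁, hz₂⟩ := Scheme.Pullback.exists_preimage_pullback (f := G.hom) (g := G.hom) g x
      (Subsingleton.elim (α := Spec (CommRingCat.of k)) _ _)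
    let z := (shearR (G := G)).inv.left z₀
    have hzμ : μ[G].left z = g := by
      rw [← comp_left_apply]
      have : (shearR (G := G)).inv ≫ μ[G] = fst G G := by
        rw [Iso.inv_comp_eq]; simp [shearR, Hom.mul_def]
      rw [this]
      exact hz₁
    have hz : (snd G G).left z = x := by
      rw [← comp_left_apply, show (shearR (G := G)).inv ≫ snd G G = snd G G by simp [shearR]]
      exact hz₂
    let w := (G ◁ φ).left z
    refine ⟨(snd G X).left '' (σ.inv.left ⁻¹' ((snd G X).left ⁻¹' D)),
      (snd G X).left.isOpenMap _ ((hDo.preimage (snd G X).left.continuous).preimage σ.inv.left.continuous),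
      ⟨σ.hom.left w, ?_, ?_⟩, ?_⟩
    · rw [Set.mem_preimage, Set.mem_preimage, ← comp_left_apply σ.hom σ.inv, σ.hom_inv_id]
      show (snd G X).left w ∈ D
      rw [← comp_left_apply, show (G ◁ φ) ≫ snd G X = snd G G ≫ φ by simp, comp_left_apply, hz, hx]
      exact hηD
    · rw [← comp_left_apply, show σ.hom ≫ snd G X = a.act by simp [σ, actShear],
        ← comp_left_apply, ← mul_comp_orbitMap, comp_left_apply, hzμ]
    · rintro _ ⟨⟨v, hv, rfl⟩, hvR⟩
      have e : σ.inv ≫ snd G X = lift (fst G X)⁻¹ (snd G X) ≫ a.act := by simp [σ, actShear]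
      have h1 : (snd G X).left (σ.inv.left v) ∈ closure R := by
        rw [← comp_left_apply, e, comp_left_apply]
        refine hY _ ?_
        rwa [← comp_left_apply, lift_snd]
      have h2 := hR _ (hDR ⟨hv, h1⟩)
      rwa [← comp_left_apply, actShear_inv_act] at h2
  choose V hVo hVg hVR using key
  have heq : R = (⋃ g, V g) ∩ closure R := by
    refine subset_antisymm ?_ ?_
    · rintro _ ⟨g, rfl⟩
      exact ⟨Set.mem_iUnion.mpr ⟨g, hVg g⟩, subset_closure ⟨g, rfl⟩⟩
    · rintro q ⟨hq, hqR⟩
      obtain ⟨g, hg⟩ := Set.mem_iUnion.mp hq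
      exact hVR g ⟨hg, hqR⟩
  show IsLocallyClosed R
  rw [heq]
  exact (isOpen_iUnion hVo).isLocallyClosed.inter isClosed_closure.isLocallyClosed

end Field

end Groth.Agent.GrpSchField
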