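import Groth.Agent.GrpSchField.Subgroup
import Groth.Agent.FieldExtConn.Basic
import Mathlib.AlgebraicGeometry.Geometrically.Irreducible
import Mathlib.AlgebraicGeometry.Properties

/-! Irreducible components of a group scheme over a field. -/

open CategoryTheory Limits AlgebraicGeometry MonoidalCategory CartesianMonoidalCategory MonObj GrpObj
open scoped TensorProduct

universe u

namespace Groth.Agent.GrpSchField

/-- In a sober space every point has a maximal generization. -/
theorem exists_max_gen {α : Type*} [TopologicalSpace α] [QuasiSober α] (x : α) :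
    ∃ c, c ⤳ x ∧ ∀ c', c' ⤳ c → c ⤳ c' := by
  have hgen := (isIrreducible_irreducibleComponent (x := x)).isGenericPoint_genericPoint
    isClosed_irreducibleComponent
  refine ⟨_, hgen.specializes mem_irreducibleComponent, fun c' hc' => ?_⟩
  have hle : irreducibleComponent x ⊆ closure {c'} := by
    rw [← hgen.def]
    exact closure_minimal (Set.singleton_subset_iff.2 hc'.mem_closure) isClosed_closure
  have := eq_irreducibleComponent isIrreducible_singleton.closure.isPreirreducible hle
  exact hgen.specializes (this ▸ subset_closure rfl)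

variable {K : Type u} [Field K]

theorem isIrreducible_rect [IsAlgClosed K] {X Y : Over (Spec (CommRingCat.of K))} (a : X.left)
    (b : Y.left) :
    IsIrreducible ((fst X Y).left ⁻¹' {a} ∩ (snd X Y).left ⁻¹' {b}) := by
  rw [← range_ptι a, ← range_ptι b, ← range_tensorHom, ← Set.image_univ]
  suffices IrreducibleSpace (pt a ⊗ pt b).left from
    (IrreducibleSpace.isIrreducible_univ _).image _ (ptι a ⊗ₘ ptι b).left.continuous.continuousOn
  change IrreducibleSpace ↥(pullback (X.left.fromSpecResidueField a ≫ X.hom)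
    (Y.left.fromSpecResidueField b ≫ Y.hom))
  obtain ⟨φ, hφ⟩ := Spec.map_surjective (X.left.fromSpecResidueField a ≫ X.hom)
  obtain ⟨ψ, hψ⟩ := Spec.map_surjective (Y.left.fromSpecResidueField b ≫ Y.hom)
  rw [← hφ, ← hψ]
  let := φ.hom.toAlgebra
  let := ψ.hom.toAlgebra
  have := Groth.Agent.FieldExtConn.isDomain_tensor_of_isAlgClosed K (X.left.residueField a)
    (Y.left.residueField b)
  have : IrreducibleSpace ↥(Spec (CommRingCat.of (X.left.residueField a ⊗[K] Y.left.residueField b))) :=
    (inferInstance : IrreducibleSpace (PrimeSpectrum (X.left.residueField a ⊗[K] Y.left.residueField b)))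
  exact (pullbackSpecIso K (X.left.residueField a) (Y.left.residueField b)).hom.homeomorph.irreducibleSpace_iff.mpr
    inferInstance

variable {G : Over (Spec (CommRingCat.of K))} [GrpObj G]

/-- Over an algebraically closed field, the generizations of a rational point have a common one. -/
theorem exists_common_gen_section {Ω : Type u} [Field Ω] [IsAlgClosed Ω]
    (t : Spec (CommRingCat.of Ω) ⟶ Spec (CommRingCat.of K)) (s : Over.mk t ⟶ G ⊗ Over.mk t)
    (hs : s ≫ snd G (Over.mk t) = 𝟙 _) (a b : (G ⊗ Over.mk t).left)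
    (ha : a ⤳ s.left (IsLocalRing.closedPoint Ω)) (hb : b ⤳ s.left (IsLocalRing.closedPoint Ω)) :
    ∃ c, c ⤳ a ∧ c ⤳ b := by
  let T := Over.mk t
  let X' : Over (Spec (CommRingCat.of Ω)) := Over.mk (snd G T).left
  let s' : 𝟙_ (Over (Spec (CommRingCat.of Ω))) ⟶ X' :=
    Over.homMk s.left (congrArg CommaMorphism.left hs)
  let PK : Over (Spec (CommRingCat.of K)) := Over.mk ((fst X' X').left ≫ (G ⊗ T).hom)
  let u : PK ⟶ G ⊗ T := Over.homMk (fst X' X').left
  let v : PK ⟶ G ⊗ T := Over.homMk (snd X' X').left (by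
    change (snd X' X').left ≫ (G ⊗ T).hom = (fst X' X').left ≫ (G ⊗ T).hom
    rw [← Over.w (snd G T), ← Category.assoc, ← Category.assoc]
    exact congrArg (· ≫ T.hom) ((Over.w (snd X' X')).trans (Over.w (fst X' X')).symm))
  let σ : X' ⟶ X' := toUnit X' ≫ s'
  have hσ : σ.left = (snd G T).left ≫ s.left := rfl
  have hσw : σ.left ≫ (G ⊗ T).hom = (G ⊗ T).hom := by
    rw [hσ, Category.assoc, Over.w s]
    exact Over.w (snd G T)
  let sec₁ : G ⊗ T ⟶ PK := Over.homMk (lift (𝟙 X') σ).left (by
    change (lift (𝟙 X') σ).left ≫ (fst X' X').left ≫ (G ⊗ T).hom = _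
    rw [← Category.assoc, ← Over.comp_left, lift_fst]
    exact Category.id_comp _)
  let sec₂ : G ⊗ T ⟶ PK := Over.homMk (lift σ (𝟙 X')).left (by
    change (lift σ (𝟙 X')).left ≫ (fst X' X').left ≫ (G ⊗ T).hom = _
    rw [← Category.assoc, ← Over.comp_left, lift_fst]
    exact hσw)
  have h1u : sec₁ ≫ u = 𝟙 _ := Over.OverMorphism.ext
    (congrArg (fun m : X' ⟶ X' => m.left) (lift_fst (𝟙 X') σ))
  have h1v : sec₁ ≫ v = snd G T ≫ s :=
    Over.OverMorphism.ext ((congrArg CommaMorphism.left (lift_snd (𝟙 X') σ)).trans hσ)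
  have h2u : sec₂ ≫ u = snd G T ≫ s :=
    Over.OverMorphism.ext ((congrArg CommaMorphism.left (lift_fst σ (𝟙 X'))).trans hσ)
  have h2v : sec₂ ≫ v = 𝟙 _ := Over.OverMorphism.ext
    (congrArg (fun m : X' ⟶ X' => m.left) (lift_snd σ (𝟙 X')))
  have hs' : s ≫ snd G T = 𝟙 T := hs
  have hs'' : s ≫ snd G T ≫ s = s :=
    ((Category.assoc _ _ _).symm.trans (congrArg (· ≫ s) hs')).trans (Category.id_comp _)
  let q : PK ⟶ G ⊗ T :=
    lift ((u ≫ fst G T) * (u ≫ snd G T ≫ s ≫ fst G T)⁻¹ * (v ≫ fst G T)) (u ≫ snd G T)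
  have h1 : sec₁ ≫ q = 𝟙 _ := by
    apply CartesianMonoidalCategory.hom_ext
    · simp [q, comp_mul, comp_inv, reassoc_of% h1u, reassoc_of% h1v]
    · simp [q, reassoc_of% h1u]
  have h2 : sec₂ ≫ q = 𝟙 _ := by
    apply CartesianMonoidalCategory.hom_ext
    · simp [q, comp_mul, comp_inv, reassoc_of% h2u, reassoc_of% h2v, reassoc_of% hs'']
    · simp [q, reassoc_of% h2u, hs']
  have hF := (isIrreducible_rect (X := X') (Y := X') a b).image q.left q.left.continuous.continuousOn
  obtain ⟨c, hc⟩ := QuasiSober.sober hF.closure isClosed_closure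
  refine ⟨c, hc.specializes ?_, hc.specializes ?_⟩
  · refine image_closure_subset_closure_image q.left.continuous ⟨sec₁.left a, ?_, ?_⟩
    · refine closure_mono (Set.inter_subset_inter (Set.preimage_mono ?_) le_rfl)
        (mem_closure_fibre' (X := X') (Y := X') (sec₁.left a) {b} ?_)
      · exact Set.singleton_subset_singleton.2 (lift_fst_apply (𝟙 X') σ a)
      · change (snd X' X').left ((lift (𝟙 X') σ).left a) ∈ closure _
        rw [lift_snd_apply]
        change s.left ((snd G T).left a) ∈ closure _
        rw [Subsingleton.elim (α := Spec (CommRingCat.of Ω)) ((snd G T).left a) (IsLocalRing.closedPoint Ω)]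
        exact hb.mem_closure
    · rw [← comp_left_apply, h1]; rfl
  · refine image_closure_subset_closure_image q.left.continuous ⟨sec₂.left b, ?_, ?_⟩
    · refine closure_mono (Set.inter_subset_inter le_rfl (Set.preimage_mono ?_))
        (mem_closure_fibre (X := X') (Y := X') (sec₂.left b) {a} ?_)
      · exact Set.singleton_subset_singleton.2 (lift_snd_apply σ (𝟙 X') b)
      · change (fst X' X').left ((lift σ (𝟙 X')).left b) ∈ closure _
        rw [lift_fst_apply]
        change s.left ((snd G T).left b) ∈ closure _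
        rw [Subsingleton.elim (α := Spec (CommRingCat.of Ω)) ((snd G T).left b) (IsLocalRing.closedPoint Ω)]
        exact ha.mem_closure
    · rw [← comp_left_apply, h2]; rfl

/-- Any two generizations of a point of a group scheme have a common generization. -/
theorem exists_common_gen {x a b : G.left} (ha : a ⤳ x) (hb : b ⤳ x) :
    ∃ c : G.left, c ⤳ a ∧ c ⤳ b := by
  let Ω := AlgebraicClosure (G.left.residueField x)
  let g : Spec (CommRingCat.of Ω) ⟶ G.left :=
    Spec.map (CommRingCat.ofHom (algebraMap (G.left.residueField x) Ω)) ≫ G.left.fromSpecResidueField x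
  let gT : Over.mk (g ≫ G.hom) ⟶ G := Over.homMk g
  let s := lift gT (𝟙 (Over.mk (g ≫ G.hom)))
  have hx : (fst G _).left (s.left (IsLocalRing.closedPoint Ω)) = x := by
    exact (lift_fst_apply gT (𝟙 _) _).trans (G.left.fromSpecResidueField_apply x _)
  rw [← hx] at ha hb
  obtain ⟨a', ha', rfl⟩ := exists_lift_gen ha
  obtain ⟨b', hb', rfl⟩ := exists_lift_gen hb
  obtain ⟨c, hca, hcb⟩ := exists_common_gen_section (g ≫ G.hom) s (lift_snd _ _) a' b' ha' hb'
  exact ⟨(fst G _).left c, hca.map (fst G _).left.continuous, hcb.map (fst G _).left.continuous⟩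

/-- The generic point of the component through `x`. -/
noncomputable def gen (x : G.left) : G.left := (exists_max_gen x).choose

omit [GrpObj G] in
theorem gen_specializes (x : G.left) : gen x ⤳ x := (exists_max_gen x).choose_spec.1

theorem gen_specializes_of_specializes {a x : G.left} (h : a ⤳ x) : gen x ⤳ a := by
  obtain ⟨c, hc, hca⟩ := exists_common_gen (gen_specializes x) h
  exact ((exists_max_gen x).choose_spec.2 c hc).trans hca

theorem gen_eq_of_specializes {a x : G.left} (h : a ⤳ x) : gen a = gen x :=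
  ((gen_specializes_of_specializes (gen_specializes_of_specializes h)).antisymm
    (gen_specializes_of_specializes ((gen_specializes a).trans h))).eq

theorem eq_gen_of_specializes {a x : G.left} (h : a ⤳ gen x) : a = gen x :=
  (h.antisymm (gen_specializes_of_specializes (h.trans (gen_specializes x)))).eq

theorem gen_gen (x : G.left) : gen (gen x) = gen x := gen_eq_of_specializes (gen_specializes x)

theorem mem_closure_gen_iff {x y : G.left} : y ∈ closure ({gen x} : Set G.left) ↔ gen y = gen x := by
  refine ⟨fun h => ?_, fun h => h ▸ (gen_specializes y).mem_closure⟩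
  rw [← gen_eq_of_specializes (specializes_iff_mem_closure.2 h), gen_gen]

variable (G) in
/-- The irreducible component through the identity. -/
noncomputable abbrev unitComp : Set G.left := closure {gen (e G)}

theorem e_mem_unitComp : e G ∈ unitComp G := (gen_specializes _).mem_closure

theorem eq_of_fst_eq_e {T : Over (Spec (CommRingCat.of K))} [Subsingleton T.left]
    {p p' : (G ⊗ T).left} (h : (fst G T).left p = e G) (h' : (fst G T).left p' = e G) : p = p' := by
  have hmem : ∀ r, (fst G T).left r = e G → r ∈ Set.range (η[G] ⊗ₘ 𝟙 T).left := fun r hr => by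
    rw [range_tensorHom]
    exact ⟨⟨IsLocalRing.closedPoint K, hr.symm⟩, by simp⟩
  obtain ⟨y, rfl⟩ := hmem p h
  obtain ⟨y', rfl⟩ := hmem p' h'
  have : Subsingleton ((Over.forget (Spec (CommRingCat.of K))).obj T) := ‹Subsingleton T.left›
  have : Subsingleton (𝟙_ (Over (Spec (CommRingCat.of K))) ⊗ T).left :=
    ((Over.forget _).mapIso (λ_ T)).hom.homeomorph.subsingleton
  rw [Subsingleton.elim y y']

/-- The component through the identity is geometrically irreducible. -/
theorem isIrreducible_preimage_unitComp {E : Type u} [Field E]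
    (t : Spec (CommRingCat.of E) ⟶ Spec (CommRingCat.of K)) :
    IsIrreducible ((fst G (Over.mk t)).left ⁻¹' unitComp G) := by
  obtain ⟨ψ, rfl⟩ := Spec.map_surjective t
  let := ψ.hom.toAlgebra
  let κ := AlgebraicClosure K
  let tκ := FieldExtConn.ext K κ
  let sκ : Over.mk tκ ⟶ G ⊗ Over.mk tκ := lift (toUnit _ ≫ η[G]) (𝟙 _)
  let e' := sκ.left (IsLocalRing.closedPoint κ)
  have he' : (fst G (Over.mk tκ)).left e' = e G := by
    exact (lift_fst_apply (toUnit _ ≫ η[G]) (𝟙 (Over.mk tκ)) _).trans
      ((comp_left_apply _ _ _).trans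
        (congrArg η[G].left (Subsingleton.elim (α := Spec (CommRingCat.of K)) _ _)))
  obtain ⟨cE, hcE, hmax⟩ := exists_max_gen e'
  have hint : IsIntegralHom (fst G (Over.mk tκ)).left := by
    have h : IsIntegralHom tκ := by
      rw [IsIntegralHom.SpecMap_iff]
      exact fun x => Algebra.IsIntegral.isIntegral x
    exact MorphismProperty.of_isPullback (P := @IsIntegralHom) (IsPullback.of_hasPullback G.hom tκ).flip h
  have : Subsingleton (Over.mk tκ).left := inferInstanceAs (Subsingleton (Spec (CommRingCat.of κ)))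
  have hover : ∀ w, (fst G (Over.mk tκ)).left w = gen (e G) → cE ⤳ w := fun w hw => by
    have hcl := (fst G (Over.mk tκ)).left.isClosedMap _ (isClosed_closure (s := {w}))
    obtain ⟨p, hp, hpe⟩ := hcl.closure_subset_iff.2
      (Set.singleton_subset_iff.2 (⟨w, subset_closure rfl, hw⟩ : gen (e G) ∈ _ '' closure {w}))
      e_mem_unitComp
    rw [eq_of_fst_eq_e hpe he'] at hp
    obtain ⟨c, hc1, hc2⟩ := exists_common_gen_section tκ sκ (lift_snd _ _) cE w hcE
      (specializes_iff_mem_closure.2 hp)
    exact (hmax c hc1).trans hc2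
  have hfcE : (fst G (Over.mk tκ)).left cE = gen (e G) := by
    have hge : gen (e G) ⤳ (fst G (Over.mk tκ)).left e' := by rw [he']; exact gen_specializes _
    obtain ⟨w, -, hw⟩ := exists_lift_gen hge
    exact eq_gen_of_specializes (hw ▸ (hover w hw).map (fst G (Over.mk tκ)).left.continuous)
  have hκ : (fst G (Over.mk tκ)).left ⁻¹' unitComp G = closure {cE} := by
    rw [← closure_fst_preimage]
    refine subset_antisymm (closure_minimal (fun w hw => (hover w hw).mem_closure) isClosed_closure) ?_
    exact closure_mono (Set.singleton_subset_iff.2 hfcE)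
  let Ω := AlgebraicClosure E
  let jE : E →ₐ[K] Ω := IsScalarTower.toAlgHom K E Ω
  let φ : κ →ₐ[K] Ω := IsAlgClosed.lift
  have : GeometricallyIrreducible (FieldExtConn.extMap φ) := by
    refine ⟨geometrically_iff_of_isClosedUnderIsomorphisms.mpr fun L _ x => ?_⟩
    obtain ⟨χ, rfl⟩ := Spec.map_surjective x
    let := φ.toRingHom.toAlgebra
    let := χ.hom.toAlgebra
    have := FieldExtConn.isDomain_tensor_of_isAlgClosed κ Ω L
    have : IrreducibleSpace ↥(Spec (CommRingCat.of (Ω ⊗[κ] L))) :=
      (inferInstance : IrreducibleSpace (PrimeSpectrum (Ω ⊗[κ] L)))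
    exact (pullbackSpecIso κ Ω L).hom.homeomorph.irreducibleSpace_iff.mpr inferInstance
  have : GeometricallyIrreducible (FieldExtConn.baseMap G.hom φ) :=
    FieldExtConn.baseMap_prop G.hom @GeometricallyIrreducible φ this
  have hirr := (FieldExtConn.baseMap G.hom φ).isIrreducible_preimage
    (FieldExtConn.baseMap G.hom φ).isOpenMap (hκ ▸ isIrreducible_singleton.closure :
      IsIrreducible ((fst G (Over.mk tκ)).left ⁻¹' unitComp G))
  have := hirr.image (FieldExtConn.baseMap G.hom jE) (FieldExtConn.baseMap G.hom jE).continuous.continuousOn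
  have e1 : (FieldExtConn.baseMap G.hom φ) ⁻¹' ((fst G (Over.mk tκ)).left ⁻¹' unitComp G) =
      (FieldExtConn.baseMap G.hom jE) ⁻¹' ((fst G (Over.mk (Spec.map ψ))).left ⁻¹' unitComp G) := by
    rw [← Set.preimage_comp, ← Set.preimage_comp]
    congr 1
    funext w
    exact (congrArg (fun m : _ ⟶ G.left => m w) (FieldExtConn.baseMap_fst G.hom φ)).trans
      (congrArg (fun m : _ ⟶ G.left => m w) (FieldExtConn.baseMap_fst G.hom jE)).symm
  rw [e1, Set.image_preimage_eq _ (FieldExtConn.baseMap G.hom jE).surjective] at this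
  exact this

theorem isIrreducible_fibre_unitComp (x : G.left) :
    IsIrreducible ((fst G G).left ⁻¹' {x} ∩ (snd G G).left ⁻¹' unitComp G) := by
  have h := isIrreducible_preimage_unitComp (G := G) (G.left.fromSpecResidueField x ≫ G.hom)
  let j : G ⊗ pt x ⟶ G ⊗ G := (β_ G (pt x)).hom ≫ (ptι x ⊗ₘ 𝟙 G)
  have hj2 : ∀ r, (snd G G).left (j.left r) = (fst G (pt x)).left r := fun r => by
    rw [← comp_left_apply]; simp [j]
  have heq : (fst G G).left ⁻¹' {x} ∩ (snd G G).left ⁻¹' unitComp G =
      j.left '' ((fst G (pt x)).left ⁻¹' unitComp G) := by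
    ext p
    constructor
    · rintro ⟨hp1, hp2⟩
      obtain ⟨q, rfl⟩ : p ∈ Set.range (ptι x ⊗ₘ 𝟙 G).left := by rw [range_ptι_whisker]; exact hp1
      have hq : j.left ((β_ G (pt x)).inv.left q) = (ptι x ⊗ₘ 𝟙 G).left q := by
        rw [← comp_left_apply, Iso.inv_hom_id_assoc]
      exact ⟨(β_ G (pt x)).inv.left q, by rw [Set.mem_preimage, ← hj2, hq]; exact hp2, hq⟩
    · rintro ⟨r, hr, rfl⟩
      refine ⟨?_, by rw [Set.mem_preimage, hj2]; exact hr⟩
      rw [Set.mem_preimage, show (fst G G).left (j.left r) = (ptι x).left ((snd G (pt x)).left r) by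
        rw [← comp_left_apply, ← comp_left_apply]; simp [j], ptι_apply]
      rfl
  rw [heq]
  exact h.image _ j.left.continuous.continuousOn

/-- Multiplying by a point of the unit component does not change the component. -/
theorem gen_mul (p : (G ⊗ G).left) (hp : (snd G G).left p ∈ unitComp G) :
    gen (μ[G].left p) = gen ((fst G G).left p) := by
  set x := (fst G G).left p
  have hirr := (isIrreducible_fibre_unitComp (gen x)).image μ[G].left μ[G].left.continuous.continuousOn
  obtain ⟨c, hc⟩ := QuasiSober.sober hirr.closure isClosed_closure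
  have hξ : gen x ∈ closure (μ[G].left ''
      ((fst G G).left ⁻¹' {gen x} ∩ (snd G G).left ⁻¹' unitComp G)) := by
    refine subset_closure ⟨(lift (ptι (gen x)) 1).left (ptPt (gen x)), ⟨?_, ?_⟩, ?_⟩
    · rw [Set.mem_preimage, lift_fst_apply, ptι_apply]; rfl
    · rw [Set.mem_preimage, lift_snd_apply, one_apply]; exact e_mem_unitComp
    · rw [← comp_left_apply, ← Hom.mul_def, _root_.mul_one, ptι_apply]
  have hp' : μ[G].left p ∈ closure (μ[G].left ''
      ((fst G G).left ⁻¹' {gen x} ∩ (snd G G).left ⁻¹' unitComp G)) :=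
    image_closure_subset_closure_image μ[G].left.continuous ⟨p,
      closure_mono (Set.inter_subset_inter le_rfl fun r hr => by
        rw [Set.mem_preimage, show (snd G G).left r = _ from hr]; exact hp)
        (mem_closure_fibre p {gen x} (gen_specializes x).mem_closure), rfl⟩
  have hcx : c = gen x := eq_gen_of_specializes (hc.specializes hξ)
  rw [← gen_eq_of_specializes (hc.specializes hp'), hcx, gen_gen]

/-- Every component is a translate of the unit component. -/
theorem exists_mul_mem {x : G.left} {V : Set G.left} (hV : IsOpen V) (h : gen x ∈ V) :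
    ∃ p : (G ⊗ G).left, (fst G G).left p = x ∧ (snd G G).left p = gen (e G) ∧ μ[G].left p ∈ V := by
  let gT : pt x ⟶ G := ptι x
  let s : pt x ⟶ G ⊗ pt x := lift gT (𝟙 _)
  let φ : G ⊗ pt x ⟶ G := (snd G (pt x) ≫ gT)⁻¹ * fst G (pt x)
  let m : G ⊗ pt x ⟶ G ⊗ G := lift (snd G (pt x) ≫ gT) φ
  have hm : m ≫ μ = fst G (pt x) := by rw [← Hom.mul_def, mul_inv_cancel_left]
  have hgx : gen x ⤳ (fst G (pt x)).left (s.left (ptPt x)) := by
    rw [lift_fst_apply, ptι_apply]; exact gen_specializes x
  obtain ⟨w, hw, hwx⟩ := exists_lift_gen hgx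
  have hsnd : φ.left w ⤳ e G := by
    have h1 : s ≫ φ = 1 := by simp [s, φ, comp_mul, comp_inv]
    rw [← one_apply (ptPt x), ← h1, comp_left_apply]
    exact hw.map φ.left.continuous
  have hq0 : (snd G G).left (m.left w) ∈ unitComp G := by
    rw [lift_snd_apply]
    exact (gen_specializes_of_specializes hsnd).mem_closure
  have hV' : μ[G].left (m.left w) ∈ V := by rw [← comp_left_apply, hm, hwx]; exact h
  obtain ⟨p, hp, hp1, hp2⟩ := mem_closure_iff.1 (mem_closure_fibre' (m.left w) {gen (e G)} hq0)
    (μ[G].left ⁻¹' V) (hV.preimage μ[G].left.continuous) hV'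
  refine ⟨p, ?_, hp2, hp⟩
  rw [show (fst G G).left p = _ from hp1, lift_fst_apply, comp_left_apply, ptι_apply]

end Groth.Agent.GrpSchField
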