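import Groth.Agent.GrpSchField.ConnComp

/-! An open and closed subgroup which is a countable union of affines. -/

open CategoryTheory Limits AlgebraicGeometry MonoidalCategory CartesianMonoidalCategory MonObj GrpObj

universe u

namespace Groth.Agent.GrpSchField

variable {K : Type u} [Field K] {G : Over (Spec (CommRingCat.of K))} [GrpObj G]

theorem mulSet_mono {s s' t t' : Set G.left} (h : s ⊆ s') (h' : t ⊆ t') : mulSet s t ⊆ mulSet s' t' :=
  Set.image_mono (Set.inter_subset_inter (Set.preimage_mono h) (Set.preimage_mono h'))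

theorem subset_mulSet_right {s t : Set G.left} (h : e G ∈ t) : s ⊆ mulSet s t := by
  intro x hx
  have := mul_apply_mem (s := s) (t := t) (ptι x) 1 (ptPt x) (by rw [ptι_apply]; exact hx)
    (by rw [one_apply]; exact h)
  rwa [_root_.mul_one, ptι_apply] at this

theorem mulSet_assoc_le (s t a : Set G.left) : mulSet s (mulSet t a) ⊆ mulSet (mulSet s t) a := by
  rintro _ ⟨p, ⟨hp1, ⟨q, ⟨hq1, hq2⟩, hq⟩⟩, rfl⟩
  obtain ⟨r, hr⟩ : p ∈ Set.range (ptι ((fst G G).left p) ⊗ₘ (ptι q ≫ μ[G])).left := by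
    rw [range_tensorHom, range_ptι]
    refine ⟨rfl, ptPt q, ?_⟩
    rw [comp_left_apply, ptι_apply, hq]
  set x := ptι ((fst G G).left p)
  let f := fst _ (pt q) ≫ x
  let g := snd (pt ((fst G G).left p)) _ ≫ ptι q ≫ fst G G
  let h := snd (pt ((fst G G).left p)) _ ≫ ptι q ≫ snd G G
  have he : (x ⊗ₘ (ptι q ≫ μ[G])) ≫ μ[G] = f * g * h := by
    have hμ : μ[G] = fst G G * snd G G := by rw [Hom.mul_def, lift_fst_snd, Category.id_comp]
    rw [hμ, comp_mul, tensorHom_fst, tensorHom_snd, comp_mul, comp_mul, _root_.mul_assoc]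
  rw [← hr, ← comp_left_apply, he]
  refine mul_apply_mem _ _ r (mul_apply_mem _ _ r ?_ ?_) ?_
  · rw [comp_left_apply, ptι_apply]; exact hp1
  · rw [comp_left_apply, comp_left_apply, ptι_apply]; exact hq1
  · rw [comp_left_apply, comp_left_apply, ptι_apply]; exact hq2

theorem inv_mulSet {s t : Set G.left} {x : G.left} (hx : x ∈ mulSet s t) :
    ι[G].left x ∈ mulSet (ι[G].left '' t) (ι[G].left '' s) := by
  obtain ⟨p, ⟨hp1, hp2⟩, rfl⟩ := hx
  have : μ[G] ≫ ι[G] = (snd G G)⁻¹ * (fst G G)⁻¹ := by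
    have hμ : μ[G] = fst G G * snd G G := by rw [Hom.mul_def, lift_fst_snd, Category.id_comp]
    rw [← _root_.mul_inv_rev, Hom.inv_def, ← hμ]
  rw [← comp_left_apply, this]
  exact mul_apply_mem _ _ p (by rw [inv_apply]; exact ⟨_, hp2, rfl⟩)
    (by rw [inv_apply]; exact ⟨_, hp1, rfl⟩)

theorem isOpen_mulSet (U V : G.left.Opens) : IsOpen (mulSet (U : Set G.left) V) := by
  let σ : G ⊗ G ≅ G ⊗ G :=
    { hom := lift (fst G G) (fst G G * snd G G)
      inv := lift (fst G G) ((fst G G)⁻¹ * snd G G)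
      hom_inv_id := by ext <;> simp [comp_mul, comp_inv]
      inv_hom_id := by ext <;> simp [comp_mul] }
  have hμ : μ[G] = σ.hom ≫ snd G G := by
    simp [σ, Hom.mul_def]
  rw [mulSet, hμ, Over.comp_left]
  have : IsIso σ.hom.left := ((Over.forget _).mapIso σ).isIso_hom
  exact Scheme.Hom.isOpenMap _ _
    ((U.2.preimage (fst G G).left.continuous).inter (V.2.preimage (snd G G).left.continuous))

variable (G) in
theorem exists_clopen_countable : ∃ U : G.left.Opens, IsClosed (U : Set G.left) ∧ e G ∈ U ∧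
    ∃ V : ℕ → G.left.Opens, (∀ n, IsAffineOpen (V n)) ∧ (U : Set G.left) = ⋃ n, (V n : Set G.left) := by
  classical
  obtain ⟨_, ⟨U₀, hU₀, rfl⟩, heU, -⟩ :=
    G.left.isBasis_affineOpens.exists_subset_of_mem_open (Set.mem_univ (e G)) isOpen_univ
  have hιι : ∀ x : G.left, ι[G].left (ι[G].left x) = x := fun x => by
    rw [← comp_left_apply, GrpObj.inv_comp_inv]; rfl
  let A : Set G.left := (U₀ : Set G.left) ∪ ι[G].left '' U₀
  have hιimg : ι[G].left '' (U₀ : Set G.left) = ι[G].left ⁻¹' U₀ := by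
    ext x
    exact ⟨fun ⟨y, hy, hxy⟩ => by rw [Set.mem_preimage, ← hxy, hιι]; exact hy,
      fun hx => ⟨_, hx, hιι x⟩⟩
  have hAo : IsOpen A := U₀.2.union (hιimg ▸ U₀.2.preimage ι[G].left.continuous)
  have hAc : IsCompact A :=
    (IsAffineOpen.isCompact hU₀).union ((IsAffineOpen.isCompact hU₀).image ι[G].left.continuous)
  have heA : e G ∈ A := Or.inl heU
  let P : ℕ → Set G.left := fun n => Nat.rec A (fun _ s => mulSet s A) n
  have hP : ∀ n, IsOpen (P n) ∧ IsCompact (P n) := fun n => by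
    induction n with
    | zero => exact ⟨hAo, hAc⟩
    | succ n ih => exact ⟨isOpen_mulSet ⟨P n, ih.1⟩ ⟨A, hAo⟩,
        isCompact_mulSet (U := ⟨P n, ih.1⟩) (V := ⟨A, hAo⟩) ih.2 hAc⟩
  let H := ⋃ n, P n
  have hHo : IsOpen H := isOpen_iUnion fun n => (hP n).1
  have hHA : A ⊆ H := Set.subset_iUnion P 0
  have hmulA : mulSet H A ⊆ H := by
    rintro _ ⟨p, ⟨hp1, hp2⟩, rfl⟩
    obtain ⟨n, hn⟩ := Set.mem_iUnion.1 hp1
    exact Set.mem_iUnion.2 ⟨n + 1, ⟨p, ⟨hn, hp2⟩, rfl⟩⟩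
  have hmulP : ∀ n, mulSet H (P n) ⊆ H := fun n => by
    induction n with
    | zero => exact hmulA
    | succ n ih =>
      exact (mulSet_assoc_le H (P n) A).trans ((mulSet_mono ih le_rfl).trans hmulA)
  have hmul : mulSet H H ⊆ H := by
    rintro _ ⟨p, ⟨hp1, hp2⟩, rfl⟩
    obtain ⟨n, hn⟩ := Set.mem_iUnion.1 hp2
    exact hmulP n ⟨p, ⟨hp1, hn⟩, rfl⟩
  have hinvA : ∀ x ∈ A, ι[G].left x ∈ A := by
    rintro x (hx | ⟨y, hy, rfl⟩)
    · exact Or.inr ⟨x, hx, rfl⟩
    · exact Or.inl (by rw [hιι]; exact hy)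
  have hinvP : ∀ n, ∀ x ∈ P n, ι[G].left x ∈ H := fun n => by
    induction n with
    | zero => exact fun x hx => hHA (hinvA x hx)
    | succ n ih =>
      exact fun x hx => hmul (mulSet_mono ((Set.image_subset_iff.2 (show A ⊆ ι[G].left ⁻¹' A from hinvA)).trans hHA)
        (Set.image_subset_iff.2 (show P n ⊆ ι[G].left ⁻¹' H from ih)) (inv_mulSet hx))
  have hclosed : IsClosed H := isClosed_of_subgroup hHo.isLocallyClosed (hHA heA)
    (fun x hx => (Set.mem_iUnion.1 hx).elim fun n hn => hinvP n x hn) hmul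
  refine ⟨⟨H, hHo⟩, hclosed, hHA heA, ?_⟩
  choose s hs hsP using fun n => (isCompact_iff_finite_and_eq_biUnion_affineOpens
    (U := ⟨P n, (hP n).1⟩)).1 (hP n).2
  let S : Set G.left.affineOpens := insert ⟨U₀, hU₀⟩ (⋃ n, s n)
  have hS : S.Countable := (Set.countable_iUnion fun n => (hs n).countable).insert _
  obtain ⟨f, hf⟩ := hS.exists_eq_range ⟨_, Set.mem_insert _ _⟩
  refine ⟨fun m => (f m).1, fun m => (f m).2, ?_⟩
  have hP' : ∀ n, P n = ⋃ i ∈ s n, (i.1 : Set G.left) := fun n => by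
    have := congrArg (fun O : G.left.Opens => (O : Set G.left)) (hsP n)
    simpa using this
  ext x
  constructor
  · intro hx
    obtain ⟨n, hn⟩ := Set.mem_iUnion.1 hx
    rw [hP' n] at hn
    obtain ⟨i, hi, hxi⟩ := Set.mem_iUnion₂.1 hn
    obtain ⟨m, rfl⟩ : i ∈ Set.range f := hf ▸ Or.inr (Set.mem_iUnion.2 ⟨n, hi⟩)
    exact Set.mem_iUnion.2 ⟨m, hxi⟩
  · intro hx
    obtain ⟨m, hm⟩ := Set.mem_iUnion.1 hx
    rcases (hf ▸ ⟨m, rfl⟩ : f m ∈ S) with h | h
    · exact hHA (Or.inl (by dsimp only at hm; rw [h] at hm; exact hm))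
    · obtain ⟨n, hn⟩ := Set.mem_iUnion.1 h
      refine Set.mem_iUnion.2 ⟨n, ?_⟩
      rw [hP' n]
      exact Set.mem_iUnion₂.2 ⟨_, hn, hm⟩

end Groth.Agent.GrpSchField
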