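import Mathlib.AlgebraicGeometry.Morphisms.Flat
import Mathlib.AlgebraicGeometry.Morphisms.UniversallyOpen
import Mathlib.AlgebraicGeometry.Morphisms.Separated
import Mathlib.AlgebraicGeometry.Group.Abelian
import Mathlib.AlgebraicGeometry.Group.Affine

/-! Points of products of schemes over a field. -/

open CategoryTheory Limits AlgebraicGeometry MonoidalCategory CartesianMonoidalCategory

universe u

namespace Groth.Agent.GrpSchField

variable {K : Type u} [Field K] {X Y A B : Over (Spec (CommRingCat.of K))}

/-- A point as an object over the base. -/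
noncomputable abbrev pt (y : Y.left) : Over (Spec (CommRingCat.of K)) :=
  Over.mk (Y.left.fromSpecResidueField y ≫ Y.hom)

/-- The inclusion of a point. -/
noncomputable abbrev ptι (y : Y.left) : pt y ⟶ Y := Over.homMk (Y.left.fromSpecResidueField y)

theorem range_ptι (y : Y.left) : Set.range (ptι y).left = {y} := Y.left.range_fromSpecResidueField y

instance universallyOpen_fst_left (X Y : Over (Spec (CommRingCat.of K))) :
    UniversallyOpen (fst X Y).left := by dsimp; infer_instance

instance universallyOpen_snd_left (X Y : Over (Spec (CommRingCat.of K))) :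
    UniversallyOpen (snd X Y).left := by dsimp; infer_instance

instance flat_fst_left (X Y : Over (Spec (CommRingCat.of K))) :
    Flat (fst X Y).left := by dsimp; infer_instance

instance flat_snd_left (X Y : Over (Spec (CommRingCat.of K))) :
    Flat (snd X Y).left := by dsimp; infer_instance

theorem range_tensorHom (f : A ⟶ X) (g : B ⟶ Y) :
    Set.range (f ⊗ₘ g).left =
      (fst X Y).left ⁻¹' Set.range f.left ∩ (snd X Y).left ⁻¹' Set.range g.left := by
  rw [Over.tensorHom_left]
  exact Scheme.Pullback.range_map ..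

theorem range_whisker_ptι (y : Y.left) :
    Set.range (𝟙 X ⊗ₘ ptι y).left = (snd X Y).left ⁻¹' {y} := by
  rw [range_tensorHom, range_ptι]
  simp

theorem range_ptι_whisker (x : X.left) :
    Set.range (ptι x ⊗ₘ 𝟙 Y).left = (fst X Y).left ⁻¹' {x} := by
  rw [range_tensorHom, range_ptι]
  simp

/-- Going down along a projection. -/
theorem exists_lift_gen {x : X.left} {p : (X ⊗ Y).left} (h : x ⤳ (fst X Y).left p) :
    ∃ w : (X ⊗ Y).left, w ⤳ p ∧ (fst X Y).left w = x :=
  Flat.generalizingMap (fst X Y).left h

theorem closure_fst_preimage (s : Set X.left) :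
    closure ((fst X Y).left ⁻¹' s) = (fst X Y).left ⁻¹' closure s :=
  ((fst X Y).left.isOpenMap.preimage_closure_eq_closure_preimage (fst X Y).left.continuous s).symm

/-- A point of a product whose first projection is in the closure of `s` is in the closure of the part
of the fibre over its second projection lying above `s`. -/
theorem mem_closure_fibre (p : (X ⊗ Y).left) (s : Set X.left)
    (h : (fst X Y).left p ∈ closure s) :
    p ∈ closure ((fst X Y).left ⁻¹' s ∩ (snd X Y).left ⁻¹' {(snd X Y).left p}) := by
  let j := 𝟙 X ⊗ₘ ptι ((snd X Y).left p)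
  obtain ⟨q, hq⟩ : p ∈ Set.range j.left := by rw [range_whisker_ptι]; rfl
  have hj : ∀ r, (fst X Y).left (j.left r) = (fst X (pt ((snd X Y).left p))).left r := fun r => by
    rw [← Scheme.Hom.comp_apply, ← Over.comp_left, tensorHom_fst, Category.comp_id]
  have hq' : q ∈ closure ((fst X (pt ((snd X Y).left p))).left ⁻¹' s) := by
    rw [closure_fst_preimage, Set.mem_preimage, ← hj, hq]
    exact h
  rw [← hq]
  refine closure_mono ?_ (image_closure_subset_closure_image j.left.continuous ⟨q, hq', rfl⟩)
  rintro _ ⟨r, hr, rfl⟩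
  refine ⟨?_, ?_⟩
  · rw [Set.mem_preimage, hj]; exact hr
  · rw [hq]
    have hr' : j.left r ∈ Set.range j.left := ⟨r, rfl⟩
    rwa [range_whisker_ptι] at hr'

theorem mem_closure_fibre' (p : (X ⊗ Y).left) (s : Set Y.left)
    (h : (snd X Y).left p ∈ closure s) :
    p ∈ closure ((fst X Y).left ⁻¹' {(fst X Y).left p} ∩ (snd X Y).left ⁻¹' s) := by
  have h1 : ∀ r, (fst X Y).left ((β_ Y X).hom.left r) = (snd Y X).left r := fun r => by
    rw [← Scheme.Hom.comp_apply, ← Over.comp_left]; simp
  have h2 : ∀ r, (snd X Y).left ((β_ Y X).hom.left r) = (fst Y X).left r := fun r => by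
    rw [← Scheme.Hom.comp_apply, ← Over.comp_left]; simp
  obtain ⟨q, rfl⟩ : ∃ q, (β_ Y X).hom.left q = p := ⟨(β_ Y X).inv.left p, by
    rw [← Scheme.Hom.comp_apply, ← Over.comp_left, Iso.inv_hom_id]; rfl⟩
  rw [h2] at h
  refine closure_mono ?_ (image_closure_subset_closure_image (β_ Y X).hom.left.continuous
    ⟨q, mem_closure_fibre q s h, rfl⟩)
  rintro _ ⟨r, ⟨hr1, hr2⟩, rfl⟩
  refine ⟨?_, ?_⟩
  · rw [Set.mem_preimage, h1, h1]; exact hr2
  · rw [Set.mem_preimage, h2]; exact hr1

end Groth.Agent.GrpSchField
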