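import Groth.Agent.GrpSchField.ConnComp
import Mathlib.AlgebraicGeometry.Limits
import Mathlib.Topology.JacobsonSpace

/-! Affine opens containing compact sets of rational points. -/

open CategoryTheory Limits AlgebraicGeometry MonoidalCategory CartesianMonoidalCategory MonObj GrpObj

universe u

namespace Groth.Agent.GrpSchField

variable {k : Type u} [Field k] {A : Type u} [CommRing A] [Algebra k A]

theorem bijective_algebraMap_quotient
    (hA : ∀ a : A, ∃ (B : Subalgebra k A) (n : ℕ), a ∈ B ∧ Nonempty (B ≃ₐ[k] (Fin n → k)))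
    (p : Ideal A) [p.IsPrime] : Function.Bijective (algebraMap k (A ⧸ p)) := by
  refine ⟨(algebraMap k (A ⧸ p)).injective, fun x => ?_⟩
  obtain ⟨a, rfl⟩ := Ideal.Quotient.mk_surjective x
  obtain ⟨B, n, ha, ⟨φ⟩⟩ := hA a
  let ψ : (Fin n → k) →ₐ[k] A ⧸ p := (Ideal.Quotient.mkₐ k p).comp (B.val.comp φ.symm.toAlgHom)
  have hprod : ∏ i, (ψ (φ ⟨a, ha⟩) - algebraMap k (A ⧸ p) (φ ⟨a, ha⟩ i)) = 0 := by
    have h0 : ∏ i, (φ ⟨a, ha⟩ - algebraMap k (Fin n → k) (φ ⟨a, ha⟩ i)) = 0 := funext fun j => by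
      rw [Finset.prod_apply, Pi.zero_apply]
      exact Finset.prod_eq_zero (Finset.mem_univ j) (by simp)
    have := congrArg ψ h0
    simpa [map_prod, map_sub] using this
  obtain ⟨i, -, hi⟩ := Finset.prod_eq_zero_iff.1 hprod
  refine ⟨φ ⟨a, ha⟩ i, ?_⟩
  rw [← sub_eq_zero.1 hi]
  simp [ψ]

variable {G : Over (Spec (CommRingCat.of k))} [GrpObj G]

omit [GrpObj G] in
/-- Points of `G × T` over a rational point of `T` are determined by their image in `G`. -/
theorem eq_of_fst_eq {T : Over (Spec (CommRingCat.of k))} (j : 𝟙_ (Over (Spec (CommRingCat.of k))) ⟶ T)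
    {w w' : (G ⊗ T).left} (hw : (snd G T).left w ∈ Set.range j.left)
    (hw' : (snd G T).left w' ∈ Set.range j.left) (h : (fst G T).left w = (fst G T).left w') :
    w = w' := by
  have hmem : ∀ r, (snd G T).left r ∈ Set.range j.left → r ∈ Set.range (𝟙 G ⊗ₘ j).left := fun r hr => by
    rw [range_tensorHom]
    exact ⟨by simp, hr⟩
  obtain ⟨y, rfl⟩ := hmem w hw
  obtain ⟨y', rfl⟩ := hmem w' hw'
  rw [← comp_left_apply, ← comp_left_apply, tensorHom_fst, Category.comp_id] at h
  have : Function.Injective (fst G (𝟙_ (Over (Spec (CommRingCat.of k))))).left := by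
    rw [← rightUnitor_hom]
    exact ((Over.forget _).mapIso (ρ_ G)).hom.homeomorph.injective
  rw [this h]

/-- A clopen part of an affine open is affine. -/
theorem isAffineOpen_inter_clopen {X : Scheme.{u}} {U D : X.Opens} (hU : IsAffineOpen U)
    (hD : IsClosed (D : Set X)) : IsAffineOpen (D ⊓ U) := by
  have : IsAffine (U : Scheme.{u}) := hU
  have : IsClosedImmersion (X.homOfLE (inf_le_right : D ⊓ U ≤ U)) := .of_isPreimmersion _ (by
    have : Set.range (X.homOfLE (inf_le_right : D ⊓ U ≤ U)) = U.ι ⁻¹' (D : Set X) := by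
      refine U.ι.isOpenEmbedding.injective.image_injective ?_
      rw [← Set.range_comp, Set.image_preimage_eq_inter_range, U.range_ι,
        show U.ι ∘ X.homOfLE (inf_le_right : D ⊓ U ≤ U) =
          ⇑(X.homOfLE (inf_le_right : D ⊓ U ≤ U) ≫ U.ι) from rfl,
        Scheme.homOfLE_ι, (D ⊓ U).range_ι]
      rfl
    rw [this]
    exact hD.preimage U.ι.continuous)
  exact isAffine_of_isAffineHom (X.homOfLE (inf_le_right : D ⊓ U ≤ U))

/-- A compact family of rational points lies in an affine open. -/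
theorem exists_affineOpen_of_profinite [JacobsonSpace G.left]
    (hrat : ∀ g : G.left, IsClosed ({g} : Set G.left) →
      ∃ x : Spec (CommRingCat.of k) ⟶ G.left, x ≫ G.hom = 𝟙 _ ∧ x (IsLocalRing.closedPoint k) = g)
    (hA : ∀ a : A, ∃ (B : Subalgebra k A) (n : ℕ), a ∈ B ∧ Nonempty (B ≃ₐ[k] (Fin n → k)))
    (f : Spec (CommRingCat.of A) ⟶ G.left)
    (hf : f ≫ G.hom = Spec.map (CommRingCat.ofHom (algebraMap k A))) :
    ∃ U : G.left.Opens, IsAffineOpen U ∧ Set.range f ⊆ U := by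
  classical
  let t := Spec.map (CommRingCat.ofHom (algebraMap k A))
  let T : Over (Spec (CommRingCat.of k)) := Over.mk t
  let fT : T ⟶ G := Over.homMk f hf
  -- every point of `T` is rational
  have hpts : ∀ s : T.left, ∃ j : 𝟙_ (Over (Spec (CommRingCat.of k))) ⟶ T,
      Set.range j.left = {s} := by
    intro s
    let p : Ideal A := (s : PrimeSpectrum A).asIdeal
    have : p.IsPrime := (s : PrimeSpectrum A).isPrime
    let χ : A →ₐ[k] k := (AlgEquiv.ofBijective (Algebra.ofId k (A ⧸ p))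
      (bijective_algebraMap_quotient hA p)).symm.toAlgHom.comp (Ideal.Quotient.mkₐ k p)
    refine ⟨Over.homMk (Spec.map (CommRingCat.ofHom χ.toRingHom)) ?_, ?_⟩
    · change Spec.map (CommRingCat.ofHom χ.toRingHom) ≫
        Spec.map (CommRingCat.ofHom (algebraMap k A)) = 𝟙 _
      rw [← Spec.map_comp, ← CommRingCat.ofHom_comp, χ.toRingHom_eq_coe, χ.comp_algebraMap]
      simp
    · have : Nonempty (𝟙_ (Over (Spec (CommRingCat.of k)))).left := ⟨IsLocalRing.closedPoint k⟩
      refine (Set.range_eq_singleton_iff).2 fun r => PrimeSpectrum.ext ?_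
      let r' : PrimeSpectrum k := r
      have : r'.asIdeal.IsPrime := r'.isPrime
      change Ideal.comap χ.toRingHom r'.asIdeal = p
      rw [Ideal.eq_bot_of_prime r'.asIdeal]
      ext a
      refine Iff.trans Ideal.mem_comap (Iff.trans Ideal.mem_bot ?_)
      let eq' := (AlgEquiv.ofBijective (Algebra.ofId k (A ⧸ p))
        (bijective_algebraMap_quotient hA p)).symm
      exact (map_eq_zero_iff eq' eq'.injective).trans Ideal.Quotient.eq_zero_iff_mem
  have hspec : ∀ s s' : T.left, s ⤳ s' → s = s' := by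
    intro s s' h
    have hmax : (s : PrimeSpectrum A).asIdeal.IsMaximal := by
      have := (s : PrimeSpectrum A).isPrime
      apply Ideal.Quotient.maximal_of_isField
      exact MulEquiv.isField (Field.toIsField k) (RingEquiv.ofBijective
        (algebraMap k (A ⧸ (s : PrimeSpectrum A).asIdeal)) (bijective_algebraMap_quotient hA _)).symm.toMulEquiv
    exact PrimeSpectrum.ext (hmax.eq_of_le (s' : PrimeSpectrum A).isPrime.ne_top
      ((PrimeSpectrum.le_iff_specializes s s').2 h))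
  have hclosedMap : IsClosedMap (fst G T).left := by
    have h : IsIntegralHom t := by
      rw [IsIntegralHom.SpecMap_iff]
      intro a
      obtain ⟨B, n, ha, ⟨φ⟩⟩ := hA a
      have : Module.Finite k B := Module.Finite.equiv φ.symm.toLinearEquiv
      exact (Algebra.IsIntegral.isIntegral (R := k) (⟨a, ha⟩ : B)).map B.val
    have : IsIntegralHom (fst G T).left :=
      MorphismProperty.of_isPullback (P := @IsIntegralHom) (IsPullback.of_hasPullback G.hom t).flip h
    exact (fst G T).left.isClosedMap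
  obtain ⟨_, ⟨U₀, hU₀, rfl⟩, heU, -⟩ :=
    G.left.isBasis_affineOpens.exists_subset_of_mem_open (Set.mem_univ (e G)) isOpen_univ
  replace hU₀ : IsAffineOpen U₀ := hU₀
  let φ : G ⊗ T ⟶ G := (fst G T)⁻¹ * (snd G T ≫ fT)
  let σ : T ⟶ G ⊗ T := lift fT (𝟙 T)
  have hσ : ∀ s, φ.left (σ.left s) = e G := fun s => by
    rw [← comp_left_apply, show σ ≫ φ = 1 by simp [σ, φ, comp_mul, comp_inv], one_apply]
  have step1 : ∀ s₀ : T.left, ∃ V : G.left.Opens, IsAffineOpen V ∧
      ∀ s : T.left, gen (f s) = gen (f s₀) → f s ∈ V := by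
    intro s₀
    let ξ := gen (f s₀)
    let F : Set T.left := f ⁻¹' closure {ξ}
    let Bad : Set G.left :=
      (fst G T).left '' ((φ.left ⁻¹' U₀)ᶜ ∩ (snd G T).left ⁻¹' F)
    have hBad : IsClosed Bad := hclosedMap _
      ((U₀.2.preimage φ.left.continuous).isClosed_compl.inter
        ((isClosed_closure.preimage f.continuous).preimage (snd G T).left.continuous))
    have hξ : ξ ∉ Bad := by
      rintro ⟨w, ⟨hwU, hwF⟩, hw⟩
      obtain ⟨j, hj⟩ := hpts ((snd G T).left w)
      have hgen : ξ ⤳ (fst G T).left (σ.left ((snd G T).left w)) := by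
        rw [lift_fst_apply, show ξ = gen (f ((snd G T).left w)) from (mem_closure_gen_iff.1 hwF).symm]
        exact gen_specializes _
      obtain ⟨w', hw', hw'1⟩ := exists_lift_gen hgen
      have hs' : (snd G T).left w' = (snd G T).left w := by
        refine hspec _ _ ?_
        have := hw'.map (snd G T).left.continuous
        rwa [lift_snd_apply] at this
      have hww : w' = w := eq_of_fst_eq j (hs' ▸ hj ▸ rfl) (hj ▸ rfl) (hw'1.trans hw.symm)
      exact hwU (hww ▸ hw'.mem_open (U₀.2.preimage φ.left.continuous)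
        (show φ.left (σ.left _) ∈ U₀ by rw [hσ]; exact heU))
    obtain ⟨h, ⟨hhξ, hhB⟩, hhc⟩ := nonempty_inter_closedPoints
      (Z := closure {ξ} ∩ Badᶜ) ⟨ξ, subset_closure rfl, hξ⟩
      (isClosed_closure.isLocallyClosed.inter hBad.isOpen_compl.isLocallyClosed)
    obtain ⟨x, hx, hxh⟩ := hrat h hhc
    let xP : 𝟙_ (Over (Spec (CommRingCat.of k))) ⟶ G := Over.homMk x hx
    let τ : G ≅ G :=
      { hom := (toUnit G ≫ xP)⁻¹ * 𝟙 G
        inv := (toUnit G ≫ xP) * 𝟙 G
        hom_inv_id := by simp [comp_mul, ← Category.assoc, toUnit_unique _ (toUnit G)]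
        inv_hom_id := by simp [comp_mul, comp_inv, ← Category.assoc, toUnit_unique _ (toUnit G)] }
    have : IsIso τ.hom.left := ((Over.forget _).mapIso τ).isIso_hom
    refine ⟨τ.hom.left ⁻¹ᵁ U₀, hU₀.preimage_of_isIso τ.hom.left, fun s hs => ?_⟩
    let σh : T ⟶ G ⊗ T := lift (toUnit T ≫ xP) (𝟙 T)
    have hfst : (fst G T).left (σh.left s) = h := by
      rw [lift_fst_apply, comp_left_apply, ← hxh]
      exact congrArg xP.left (Subsingleton.elim (α := Spec (CommRingCat.of k)) _ _)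
    have hin : σh.left s ∈ φ.left ⁻¹' U₀ := by
      by_contra hc
      exact hhB ⟨σh.left s, ⟨hc, by
        rw [Set.mem_preimage, lift_snd_apply]
        exact mem_closure_gen_iff.2 hs⟩, hfst⟩
    have heq : σh ≫ φ = fT ≫ τ.hom := by
      simp [σh, φ, τ, comp_mul, comp_inv, ← Category.assoc, toUnit_unique _ (toUnit T)]
    change τ.hom.left (fT.left s) ∈ U₀
    rw [← comp_left_apply, ← heq, comp_left_apply]
    exact hin
  have hC : IsCompact (Set.range f) := isCompact_range f.continuous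
  have step2 : ∀ s₀ : T.left, ∃ (W V : G.left.Opens), IsClosed (W : Set G.left) ∧ IsAffineOpen V ∧
      f s₀ ∈ W ∧ Set.range f ∩ W ⊆ V := by
    intro s₀
    obtain ⟨V, hV, hVs⟩ := step1 s₀
    let ξ := gen (f s₀)
    have hsep : ∀ y ∈ Set.range f ∩ (V : Set G.left)ᶜ, ∃ O : G.left.Opens,
        IsClosed (O : Set G.left) ∧ y ∉ O ∧ f s₀ ∈ O := by
      rintro _ ⟨⟨s, rfl⟩, hs⟩
      have hne : ¬ gen (f s) ⤳ ξ := fun h => hs (hVs s (eq_gen_of_specializes h))
      obtain ⟨O, hO, hξO, hsO⟩ := not_specializes_iff_exists_open.1 hne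
      obtain ⟨_, ⟨V', hV', rfl⟩, hξV', hV'O⟩ :=
        G.left.isBasis_affineOpens.exists_subset_of_mem_open hξO hO
      exact ⟨⟨_, isOpen_gen_preimage V'⟩, isClosed_gen_preimage V' (IsAffineOpen.isCompact hV'),
        fun h => hsO (hV'O h), hξV'⟩
    choose O hOc hyO hfO using hsep
    obtain ⟨b, hb⟩ := (hC.inter_right V.2.isClosed_compl).elim_finite_subcover
      (fun y : ↥(Set.range f ∩ (V : Set G.left)ᶜ) => (O y.1 y.2 : Set G.left)ᶜ)
      (fun y => (hOc y.1 y.2).isOpen_compl)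
      (fun y hy => Set.mem_iUnion.2 ⟨⟨y, hy⟩, hyO y hy⟩)
    refine ⟨⟨⋂ y ∈ b, (O y.1 y.2 : Set G.left), isOpen_biInter_finset fun y _ => (O y.1 y.2).2⟩, V,
      isClosed_biInter fun y _ => hOc y.1 y.2, hV, Set.mem_iInter₂.2 fun y _ => hfO y.1 y.2, ?_⟩
    rintro x ⟨hxC, hxW⟩
    by_contra hxV
    obtain ⟨y, hy, hxy⟩ := Set.mem_iUnion₂.1 (hb ⟨hxC, hxV⟩)
    exact hxy (Set.mem_iInter₂.1 hxW y hy)
  choose W V hWc hV hfW hWV using step2
  obtain ⟨b, hb⟩ := hC.elim_finite_subcover (fun s => (W s : Set G.left)) (fun s => (W s).2)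
    (by rintro _ ⟨s, rfl⟩; exact Set.mem_iUnion.2 ⟨s, hfW s⟩)
  let l := b.toList
  let D : Fin l.length → G.left.Opens := fun i =>
    ⟨(W (l.get i) : Set G.left) ∩ ⋂ j : {j : Fin l.length // j < i}, (W (l.get j.1) : Set G.left)ᶜ,
      (W (l.get i)).2.inter (isOpen_iInter_of_finite fun j => (hWc _).isOpen_compl)⟩
  have hDc : ∀ i, IsClosed (D i : Set G.left) := fun i =>
    (hWc _).inter (isClosed_iInter fun j => (W _).2.isClosed_compl)
  refine ⟨⨆ i, D i ⊓ V (l.get i),
    IsAffineOpen.iSup_of_disjoint (fun i => isAffineOpen_inter_clopen (hV _) (hDc i)) ?_, ?_⟩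
  · intro i j hij
    wlog h : i < j generalizing i j
    · exact (this hij.symm (lt_of_le_of_ne (not_lt.1 h) hij.symm)).symm
    change Disjoint (D i ⊓ V (l.get i)) (D j ⊓ V (l.get j))
    rw [disjoint_iff_inf_le]
    rintro x ⟨⟨hxi, -⟩, ⟨hxj, -⟩⟩
    exact Set.mem_iInter.1 hxj.2 ⟨i, h⟩ hxi.1
  · intro x hx
    obtain ⟨s, hs, hxs⟩ := Set.mem_iUnion₂.1 (hb hx)
    obtain ⟨i, hi⟩ := List.get_of_mem (Finset.mem_toList.2 hs)
    have hex : (Finset.univ.filter fun i => x ∈ (W (l.get i) : Set G.left)).Nonempty :=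
      ⟨i, Finset.mem_filter.2 ⟨Finset.mem_univ _, hi ▸ hxs⟩⟩
    obtain ⟨i₀, hi₀, hmin⟩ := Finset.exists_min_image _ id hex
    rw [Finset.mem_filter] at hi₀
    rw [TopologicalSpace.Opens.coe_iSup, Set.mem_iUnion]
    refine ⟨i₀, ⟨hi₀.2, Set.mem_iInter.2 fun j hj => ?_⟩, hWV _ ⟨hx, hi₀.2⟩⟩
    exact absurd (hmin j.1 (Finset.mem_filter.2 ⟨Finset.mem_univ _, hj⟩)) (not_le.2 j.2)

end Groth.Agent.GrpSchField
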